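import Mathlib

/-!
# An algebraic contradiction in characteristic two

Used for: no 3-transposition fails to commute with all the points of an affine plane.
-/

set_option autoImplicit false
set_option linter.unusedSimpArgs false

namespace Cfsg.Agent.H853.HolAlg

section ring

variable {R : Type*} [Ring R]

/-- `X² + X + 1 = 0` in characteristic two -/
def Om (X : R) : Prop := X * X = X + 1

variable (h2 : ∀ r : R, r + r = 0)
include h2

theorem z2 (r : R) : (2 : ℤ) • r = 0 := by rw [two_zsmul, h2]
theorem z4 (r : R) : (4 : ℤ) • r = 0 := by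
  have : (4 : ℤ) • r = (2 : ℤ) • ((2 : ℤ) • r) := by rw [smul_smul]; norm_num
  rw [this, z2 h2]
theorem z3 (r : R) : (3 : ℤ) • r = r := by
  have : (3 : ℤ) • r = (2 : ℤ) • r + r := by rw [show (3 : ℤ) = 2 + 1 by norm_num, add_zsmul, one_zsmul]
  rw [this, z2 h2, zero_add]

theorem eq_of_add {a b : R} (e : a + b = 0) : a = b := by
  have := h2 b
  calc a = a + (b + b) := by rw [this, add_zero]
    _ = (a + b) + b := by abel
    _ = b := by rw [e, zero_add]

theorem Om.right {X : R} (hX : Om X) : X * (1 + X) = 1 := by
  rw [mul_add, mul_one, hX]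
  calc X + (X + 1) = (X + X) + 1 := by abel
    _ = 1 := by rw [h2, zero_add]

theorem Om.left {X : R} (hX : Om X) : (1 + X) * X = 1 := by
  rw [add_mul, one_mul, hX]
  calc X + (X + 1) = (X + X) + 1 := by abel
    _ = 1 := by rw [h2, zero_add]

theorem Om.inv {X Y : R} (hX : Om X) (e : X * Y = 1) : Y = 1 + X := by
  calc Y = ((1 + X) * X) * Y := by rw [hX.left h2, one_mul]
    _ = 1 + X := by rw [mul_assoc, e, mul_one]

theorem Om.one_add {X : R} (hX : Om X) : Om (1 + X) := by
  unfold Om at *
  apply eq_of_add h2
  simp only [mul_add, add_mul, mul_one, one_mul, hX]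
  abel_nf
  simp only [z2 h2, z4 h2, add_zero, zero_add]

/-- `[a, h] = 1` is impossible for `h² = h + 1` -/
theorem one_eq_zero {h a : R} (hh : Om h) (e : h * a + a * h = 1) : (1 : R) = 0 := by
  have e1 : a * h = 1 + h * a := by
    apply eq_of_add h2
    calc a * h + (1 + h * a) = (h * a + a * h) + 1 := by abel
      _ = 0 := by rw [e, h2]
  have e2 : a * (h * h) = h * h * a := by
    have e3 : (a * h) * h = h + h * (a * h) := by
      calc (a * h) * h = (1 + h * a) * h := by rw [e1]
        _ = h + h * (a * h) := by rw [add_mul, one_mul, mul_assoc]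
    calc a * (h * h) = (a * h) * h := by rw [mul_assoc]
      _ = h + h * (a * h) := e3
      _ = h + (h + h * h * a) := by rw [e1, mul_add, mul_one, mul_assoc]
      _ = (h + h) + h * h * a := by abel
      _ = h * h * a := by rw [h2, zero_add]
  rw [hh, mul_add, add_mul, mul_one, one_mul, e1] at e2
  calc (1 : R) = (1 + h * a + a) - (h * a + a) := by abel
    _ = 0 := by rw [e2, sub_self]

/-- first consequence of the four relations -/
theorem rel_one {h α β : R} (hh : Om h) (hα : Om α) (hβ : Om β)
    (k1 : Om (α * (1 + β) * h)) (k4 : Om ((1 + α) * β * h)) :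
    (α + β) * h = (1 + h) * (α + β) := by
  have a1 : (1 + h) * β * (1 + α) = 1 + α * (1 + β) * h := by
    apply k1.inv h2
    calc α * (1 + β) * h * ((1 + h) * β * (1 + α))
        = α * ((1 + β) * (h * (1 + h)) * β) * (1 + α) := by simp only [mul_assoc]
      _ = 1 := by rw [hh.right h2, mul_one, hβ.left h2, mul_one, hα.right h2]
  have a4 : (1 + h) * (1 + β) * α = 1 + (1 + α) * β * h := by
    apply k4.inv h2
    calc (1 + α) * β * h * ((1 + h) * (1 + β) * α)
        = (1 + α) * (β * (h * (1 + h)) * (1 + β)) * α := by simp only [mul_assoc]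
      _ = 1 := by rw [hh.right h2, mul_one, hβ.right h2, mul_one, hα.left h2]
  have e := congrArg₂ (· + ·) a1 a4
  apply eq_of_add h2
  have e' : (1 + h) * β * (1 + α) + (1 + h) * (1 + β) * α +
      (1 + α * (1 + β) * h + (1 + (1 + α) * β * h)) = 0 := by rw [e, h2]
  rw [← e']
  apply eq_of_add h2
  simp only [mul_add, add_mul, mul_one, one_mul]
  abel_nf
  simp only [z2 h2, z4 h2, z3 h2, add_zero, zero_add]

end ring

section main

variable {B : Type*} [AddCommGroup B]

theorem mul_ap (f g : AddMonoid.End B) (b : B) : (f * g) b = f (g b) := rfl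
theorem add_ap (f g : AddMonoid.End B) (b : B) : (f + g) b = f b + g b := rfl
theorem one_ap (b : B) : (1 : AddMonoid.End B) b = b := rfl

variable [Finite B]

theorem rel_two (h2 : ∀ b : B, b + b = 0) {h α β : AddMonoid.End B} (hh : Om h) (hα : Om α)
    (hβ : Om β) (k1 : Om (α * (1 + β) * h)) (k4 : Om ((1 + α) * β * h))
    (c1 : Om ((1 + h) * α + h * β)) (c2 : Om (h * (1 + α) + (1 + h) * β)) :
    h * α = β * h := by
  have h2R : ∀ r : AddMonoid.End B, r + r = 0 := fun r => by ext b; exact h2 _
  have r1 := rel_one h2R hh hα hβ k1 k4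
  obtain ⟨σ, hσ⟩ : ∃ σ, σ = α + β := ⟨_, rfl⟩
  rw [← hσ] at r1
  have eβ : β = α + σ := by
    rw [hσ]
    calc β = (α + α) + β := by rw [h2R, zero_add]
      _ = α + (α + β) := by abel
  -- σ α = α σ + σ σ + σ
  have r3 : σ * α = α * σ + σ * σ + σ := by
    have := hβ
    unfold Om at this hα
    rw [eβ] at this
    apply eq_of_add h2R
    have e' : (α + σ) * (α + σ) + (α + σ + 1) = 0 := by rw [this, h2R]
    rw [← e']
    apply eq_of_add h2R
    simp only [mul_add, add_mul, hα]
    abel_nf
    simp only [z2 h2R, z4 h2R, z3 h2R, add_zero, zero_add]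
  -- c1: Om (α + h σ)
  have r2 : (h * α + β * h) * σ = 0 := by
    have e1 : (1 + h) * α + h * β = α + h * σ := by
      rw [hσ]
      simp only [mul_add, add_mul, one_mul]
      abel
    rw [e1] at c1
    unfold Om at c1 hα hh
    have e2 : (α + h * σ) * (α + h * σ) + (α + h * σ + 1) = 0 := by rw [c1, h2R]
    have e3 : h * σ * α = h * (α * σ + σ * σ + σ) := by rw [mul_assoc, r3]
    have e4 : h * σ * (h * σ) = σ * σ := by
      calc h * σ * (h * σ) = h * (σ * h) * σ := by simp only [mul_assoc]
        _ = h * ((1 + h) * σ) * σ := by rw [r1]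
        _ = (h * (1 + h)) * σ * σ := by simp only [mul_assoc]
        _ = σ * σ := by rw [Om.right h2R hh, one_mul]
    have e5 : β * h * σ = α * h * σ + (σ * σ + h * σ * σ) := by
      rw [eβ, add_mul, add_mul, r1]
      simp only [add_mul, one_mul, mul_assoc]
    rw [add_mul, e5, ← e2]
    apply eq_of_add h2R
    simp only [mul_add, add_mul, hα, e3, e4, mul_assoc]
    abel_nf
    simp only [z2 h2R, z4 h2R, z3 h2R, add_zero, zero_add]
  -- σ is injective
  have inj : Function.Injective σ := by
    rw [injective_iff_map_eq_zero]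
    intro v hv
    have ker_h : ∀ w, σ w = 0 → σ (h w) = 0 := by
      intro w hw
      have := congrArg (fun f : AddMonoid.End B => f w) r1
      simp only [mul_ap] at this
      rw [this, hw, map_zero]
    have ker_α : ∀ w, σ w = 0 → σ (α w) = 0 := by
      intro w hw
      have := congrArg (fun f : AddMonoid.End B => f w) r3
      simp only [mul_ap, add_ap] at this
      rw [this]
      simp [hw]
    have hβw : ∀ w, σ w = 0 → β w = α w := by
      intro w hw
      rw [eβ, add_ap, hw, add_zero]
    have ah : ∀ w, α (α w) = α w + w := fun w => by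
      have := congrArg (fun f : AddMonoid.End B => f w) hα
      exact this
    have hhw : ∀ w, h (h w) = h w + w := fun w => by
      have := congrArg (fun f : AddMonoid.End B => f w) hh
      exact this
    have cw : ∀ w, σ w = 0 → (h * (1 + α) + (1 + h) * β) w = h w + α w := by
      intro w hw
      simp only [add_ap, mul_ap, one_ap,
        hβw w hw, map_add]
      calc h w + h (α w) + (α w + h (α w)) = h w + α w + (h (α w) + h (α w)) := by abel
        _ = h w + α w := by rw [h2, add_zero]
    have key' : ∀ w, σ w = 0 → h (α w) + α (h w) = w := by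
      intro w hw
      have e1 := congrArg (fun f : AddMonoid.End B => f w) c2
      have hw' : σ (h w + α w) = 0 := by rw [map_add, ker_h w hw, ker_α w hw, add_zero]
      simp only [mul_ap] at e1
      rw [cw w hw, cw _ hw'] at e1
      have e2 : (h * (1 + α) + (1 + h) * β + 1) w = h w + α w + w := by
        rw [add_ap, cw w hw]; rfl
      rw [e2] at e1
      simp only [map_add, ah, hhw] at e1
      have e3 : h w + w + h (α w) + (α (h w) + (α w + w)) + (h w + α w + w) = 0 := by
        rw [e1, h2]
      have a1 := h2 (h w)
      have a2 := h2 (α w)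
      have a3 := h2 w
      calc h (α w) + α (h w) = (h w + w + h (α w) + (α (h w) + (α w + w)) + (h w + α w + w)) +
            (h w + h w) + (α w + α w) + (w + w) + w := by
            rw [a1, a2, a3, add_zero, add_zero, add_zero]
            calc h (α w) + α (h w) = h (α w) + α (h w) + (h w + h w) + (α w + α w) + (w + w) + (w + w) := by
                  rw [a1, a2, a3, add_zero, add_zero, add_zero, add_zero]
              _ = _ := by abel
        _ = w := by rw [e3, a1, a2, a3, add_zero, add_zero, zero_add, zero_add]
    -- contradiction as in `one_eq_zero`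
    have f1 : α (h (h v)) = h (h (α v)) := by
      have b1 := key' v hv
      have b2 := key' (h v) (ker_h v hv)
      -- α (h (h v)) = h v + h (α (h v)), h (α (h v)) = h v + h (h (α v))
      have b3 : α (h (h v)) = h v + h (α (h v)) := by
        calc α (h (h v)) = (h (α (h v)) + α (h (h v))) + h (α (h v)) := by
              rw [add_comm (h (α (h v))) (α (h (h v))), add_assoc, h2, add_zero]
          _ = h v + h (α (h v)) := by rw [b2]
      have b4 : h (α (h v)) = h v + h (h (α v)) := by
        have := congrArg h b1
        rw [map_add] at this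
        calc h (α (h v)) = h (h (α v)) + (h (h (α v)) + h (α (h v))) := by
              rw [← add_assoc, h2, zero_add]
          _ = h (h (α v)) + h v := by rw [this]
          _ = _ := by rw [add_comm]
      rw [b3, b4, ← add_assoc, h2, zero_add]
    rw [hhw, hhw, map_add] at f1
    have f2 := key' v hv
    have f3 : α (h v) = h (α v) := add_right_cancel f1
    rw [f3, h2] at f2
    exact f2.symm
  have surj : Function.Surjective σ := Finite.surjective_of_injective inj
  apply eq_of_add h2R
  ext b
  obtain ⟨b', rfl⟩ := surj b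
  have := congrArg (fun f : AddMonoid.End B => f b') r2
  simpa using this

/-- the contradiction -/
theorem contradiction (h2 : ∀ b : B, b + b = 0) {h α β : AddMonoid.End B} (hh : Om h)
    (hα : Om α) (hβ : Om β) (k1 : Om (α * (1 + β) * h)) (k2 : Om ((1 + α) * (1 + β) * (1 + h)))
    (k3 : Om (α * β * (1 + h))) (k4 : Om ((1 + α) * β * h))
    (c1 : Om ((1 + h) * α + h * β)) (c2 : Om (h * (1 + α) + (1 + h) * β)) : ∀ b : B, b = 0 := by
  have h2R : ∀ r : AddMonoid.End B, r + r = 0 := fun r => by ext b; exact h2 _
  have E1 := rel_two h2 hh hα hβ k1 k4 c1 c2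
  have o1 : (1 : AddMonoid.End B) + (1 + β) = β := by
    rw [← add_assoc, h2R, zero_add]
  have o2 : (1 : AddMonoid.End B) + (1 + h) = h := by
    rw [← add_assoc, h2R, zero_add]
  have E2 := rel_two h2 (Om.one_add h2R hh) hα (Om.one_add h2R hβ)
    (by rw [o1]; exact k3) k2
    (by
      have := Om.one_add h2R c2
      have e : (1 : AddMonoid.End B) + (h * (1 + α) + (1 + h) * β) =
          (1 + (1 + h)) * α + (1 + h) * (1 + β) := by
        rw [o2]
        simp only [mul_add, add_mul, one_mul, mul_one]
        abel
      rwa [e] at this)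
    (by
      have := Om.one_add h2R c1
      have e : (1 : AddMonoid.End B) + ((1 + h) * α + h * β) =
          (1 + h) * (1 + α) + (1 + (1 + h)) * (1 + β) := by
        rw [o2]
        apply eq_of_add h2R
        simp only [mul_add, add_mul, one_mul, mul_one]
        abel_nf
        simp only [z2 h2R, z4 h2R, z3 h2R, add_zero, zero_add]
      rwa [e] at this)
  -- β = 1 + h + α
  have e1 : β = 1 + h + α := by
    have e2 : (1 + h) * α + (1 + β) * (1 + h) = 0 := by rw [E2, h2R]
    apply eq_of_add h2R
    rw [← e2]
    simp only [mul_add, add_mul, one_mul, mul_one, E1]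
    apply eq_of_add h2R
    abel_nf
    simp only [z2 h2R, z4 h2R, z3 h2R, add_zero, zero_add]
  have e3 : h * α + α * h = 1 := by
    rw [e1] at E1
    unfold Om at hh
    have : (1 + h + α) * h = 1 + α * h := by
      simp only [add_mul, one_mul, hh]
      apply eq_of_add h2R
      abel_nf
      simp only [z2 h2R, z4 h2R, z3 h2R, add_zero, zero_add]
    rw [this] at E1
    rw [E1, add_assoc, h2R, add_zero]
  have := one_eq_zero h2R hh e3
  intro b
  have h1 := congrArg (fun f : AddMonoid.End B => f b) this
  simpa using h1

end main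

end Cfsg.Agent.H853.HolAlg
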