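import Cfsg.Agent.H853.SC
import Cfsg.Agent.H853.HolAlg

/-!
# Holonomies: no 3-transposition fails to commute with all points of an affine plane
-/

set_option autoImplicit false

namespace Cfsg.Agent.H853.Hol

open Subgroup Cfsg.Agent.H854 Cfsg.Agent.H854.TM Cfsg.Agent.H853.HolAlg

variable {H M : Type*} [Group H] [AddCommGroup M] [DistribMulAction H M] {D : Set H}

/-- `m ↦ m + y m` -/
def dl (M : Type*) [AddCommGroup M] [DistribMulAction H M] (y : H) : AddMonoid.End M :=
  1 + DistribMulAction.toAddMonoidEnd H M y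

theorem dl_apply (y : H) (m : M) : dl M y m = m + y • m := rfl

/-- `[M, x]` -/
def B (M : Type*) [AddCommGroup M] [DistribMulAction H M] (x : H) : AddSubgroup M :=
  (dl M x).range

theorem mem_B {x : H} {m : M} : m ∈ B M x ↔ ∃ m0 : M, m0 + x • m0 = m := Iff.rfl

theorem dl_mem (x : H) (m : M) : dl M x m ∈ B M x := ⟨m, rfl⟩

section

variable (h : IsTM D M)
include h

theorem two' (r : AddMonoid.End M) : r + r = 0 := by
  ext b; exact h.two _

theorem dd {x : H} (hx : x ∈ D) : dl M x * dl M x = 0 := by
  ext m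
  change (m + x • m) + x • (m + x • m) = 0
  rw [h.fix_self hx, h.two]

theorem dc {x y : H} (hx : x ∈ D) (hy : y ∈ D) (hc : x * y = y * x) : dl M y * dl M x = 0 := by
  ext m
  change (m + x • m) + y • (m + x • m) = 0
  rw [h.comm x hx y hy hc, h.two]

theorem ddd {x y : H} (hx : x ∈ D) (hy : y ∈ D) (hn : x * y ≠ y * x) :
    dl M x * dl M y * dl M x = dl M x := by
  ext m
  obtain ⟨n, hn'⟩ : ∃ n, n = m + x • m := ⟨_, rfl⟩
  have hxn : x • n = n := by rw [hn']; exact h.fix_self hx m
  have hb := (h.braid x hx y hy).resolve_left hn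
  have hyy := h.sq y hy
  have hxx := h.sq x hx
  change (dl M y (dl M x m)) + x • (dl M y (dl M x m)) = dl M x m
  rw [show dl M x m = n from hn'.symm, dl_apply, smul_add, hxn]
  -- goal : n + y n + (n + x y n) = n
  have key : n + y • n + x • y • n = 0 := by
    have e0 : ∃ m', n + y • n + x • y • n = m' + x • m' := by
      refine ⟨m + y • n, ?_⟩
      rw [smul_add, hn']
      abel
    obtain ⟨m', hm'⟩ := e0
    refine h.eq_zero_of_fix hx hy hn hm' ?_
    rw [smul_add, smul_add, smul_smul y y, hyy, one_smul]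
    have e1 : y • x • y • n = x • y • n := by
      rw [smul_smul, smul_smul, ← hb, mul_smul, mul_smul, hxn]
    rw [e1]
    abel
  calc n + y • n + (n + x • y • n) = (n + y • n + x • y • n) + n := by abel
    _ = n := by rw [key, zero_add]

theorem dthird {p q : H} (hp : p ∈ D) (hq : q ∈ D) (hn : q * p ≠ p * q) :
    dl M (q * p * q) = dl M p + dl M q + dl M p * dl M q + dl M q * dl M p := by
  have h2 := two' h
  obtain ⟨P, hP⟩ : ∃ P, P = DistribMulAction.toAddMonoidEnd H M p := ⟨_, rfl⟩
  obtain ⟨Q, hQ⟩ : ∃ Q, Q = DistribMulAction.toAddMonoidEnd H M q := ⟨_, rfl⟩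
  have h3 := ddd h hq hp hn
  have h4 := dd h hq
  have e1 : DistribMulAction.toAddMonoidEnd H M (q * p * q) = Q * P * Q := by
    rw [map_mul, map_mul, hP, hQ]
  have eP : P = dl M p + 1 := by
    unfold dl
    rw [← hP]
    apply eq_of_add h2
    calc P + (1 + P + 1) = (P + P) + (1 + 1) := by abel
      _ = 0 := by rw [h2, h2, add_zero]
  have eQ : Q = dl M q + 1 := by
    unfold dl
    rw [← hQ]
    apply eq_of_add h2
    calc Q + (1 + Q + 1) = (Q + Q) + (1 + 1) := by abel
      _ = 0 := by rw [h2, h2, add_zero]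
  have e2 : dl M (q * p * q) = 1 + Q * P * Q := by
    unfold dl; rw [e1]
  rw [e2, eP, eQ]
  generalize dl M p = a at *
  generalize dl M q = b at *
  apply eq_of_add h2
  have e3 : 1 + (b + 1) * (a + 1) * (b + 1) + (a + b + a * b + b * a) =
      (1 + 1) + (a + a) + (b + b) + (b + b * a * b) + (a * b + a * b) + (b * a + b * a) + b * b := by
    noncomm_ring
  rw [e3, h3, h4]
  simp only [h2, add_zero]

end

/-- the holonomy `x → p → q → x` on `[M, x]` -/
def gam (M : Type*) [AddCommGroup M] [DistribMulAction H M] (x p q : H) :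
    AddMonoid.End (B M x) where
  toFun b := ⟨dl M x (dl M q (dl M p b)), dl_mem x _⟩
  map_zero' := by
    apply Subtype.ext
    simp
  map_add' b c := by
    apply Subtype.ext
    simp

theorem gam_coe (x p q : H) (b : B M x) :
    ((gam M x p q b : B M x) : M) = dl M x (dl M q (dl M p b)) := rfl

theorem gam_ext {x : H} {f g : AddMonoid.End (B M x)}
    (hfg : ∀ m : M, ((f ⟨dl M x m, dl_mem x m⟩ : B M x) : M) = g ⟨dl M x m, dl_mem x m⟩) :
    f = g := by
  ext ⟨b, m, rfl⟩
  exact hfg m

section

variable (h : IsTM D M)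
include h

theorem two_B (x : H) (b : B M x) : b + b = 0 := by
  apply Subtype.ext
  exact h.two _

theorem two_R (x : H) (r : AddMonoid.End (B M x)) : r + r = 0 := by
  ext b
  exact h.two _

omit h in
theorem ap' {f g : AddMonoid.End M} (e : f = g) (m : M) : f m = g m := by rw [e]

theorem gam_inv {x p q : H} (hx : x ∈ D) (hp : p ∈ D) (hq : q ∈ D) (xp : x * p ≠ p * x)
    (xq : x * q ≠ q * x) (pq : p * q ≠ q * p) : gam M x q p * gam M x p q = 1 := by
  apply gam_ext
  intro m
  change dl M x (dl M p (dl M q (dl M x (dl M q (dl M p (dl M x m)))))) = dl M x m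
  have e1 : dl M q (dl M x (dl M q (dl M p (dl M x m)))) = dl M q (dl M p (dl M x m)) :=
    ap' (ddd h hq hx xq.symm) _
  have e2 : dl M p (dl M q (dl M p (dl M x m))) = dl M p (dl M x m) := ap' (ddd h hp hq pq) _
  have e3 : dl M x (dl M p (dl M x m)) = dl M x m := ap' (ddd h hx hp xp) _
  rw [e1, e2, e3]

theorem gam_third_right {x p q : H} (hx : x ∈ D) (hp : p ∈ D) (hq : q ∈ D)
    (xp : x * p ≠ p * x) (xq : x * q ≠ q * x) :
    gam M x q (x * p * x) = 1 + gam M x q p := by
  apply gam_ext
  intro m
  have e1 : dl M (x * p * x) = dl M p + dl M x + dl M p * dl M x + dl M x * dl M p :=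
    dthird h hp hx xp
  change dl M x (dl M (x * p * x) (dl M q (dl M x m))) =
    dl M x m + dl M x (dl M p (dl M q (dl M x m)))
  rw [e1]
  change dl M x (dl M p (dl M q (dl M x m)) + dl M x (dl M q (dl M x m)) +
    dl M p (dl M x (dl M q (dl M x m))) + dl M x (dl M p (dl M q (dl M x m)))) = _
  have e2 : dl M x (dl M q (dl M x m)) = dl M x m := ap' (ddd h hx hq xq) _
  have e3 : ∀ n : M, dl M x (dl M x n) = 0 := fun n => ap' (dd h hx) n
  have e4 : dl M x (dl M p (dl M x m)) = dl M x m := ap' (ddd h hx hp xp) _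
  rw [e2, map_add, map_add, map_add, e3, e3, e4]
  abel

theorem gam_third_left {x p q : H} (hx : x ∈ D) (hp : p ∈ D) (hq : q ∈ D)
    (xp : x * p ≠ p * x) (xq : x * q ≠ q * x) :
    gam M x (x * p * x) q = 1 + gam M x p q := by
  apply gam_ext
  intro m
  have e1 : dl M (x * p * x) = dl M p + dl M x + dl M p * dl M x + dl M x * dl M p :=
    dthird h hp hx xp
  change dl M x (dl M q (dl M (x * p * x) (dl M x m))) =
    dl M x m + dl M x (dl M q (dl M p (dl M x m)))
  rw [e1]
  change dl M x (dl M q (dl M p (dl M x m) + dl M x (dl M x m) +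
    dl M p (dl M x (dl M x m)) + dl M x (dl M p (dl M x m)))) = _
  have e3 : ∀ n : M, dl M x (dl M x n) = 0 := fun n => ap' (dd h hx) n
  have e4 : dl M x (dl M p (dl M x m)) = dl M x m := ap' (ddd h hx hp xp) _
  have e2 : dl M x (dl M q (dl M x m)) = dl M x m := ap' (ddd h hx hq xq) _
  rw [e3, e4, map_zero, add_zero, add_zero, map_add, map_add, e2]
  abel

theorem gam_third {x y p q : H} (hx : x ∈ D) (hp : p ∈ D) (hq : q ∈ D)
    (xp : x * p ≠ p * x) (xq : x * q ≠ q * x) (pq : q * p ≠ p * q) :
    gam M x y (q * p * q) = (1 + gam M x p q) * gam M x y p + (1 + gam M x q p) * gam M x y q := by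
  apply gam_ext
  intro m
  have e1 := dthird h hp hq pq
  change dl M x (dl M (q * p * q) (dl M y (dl M x m))) =
    (dl M x (dl M p (dl M y (dl M x m))) +
      dl M x (dl M q (dl M p (dl M x (dl M p (dl M y (dl M x m))))))) +
    (dl M x (dl M q (dl M y (dl M x m))) +
      dl M x (dl M p (dl M q (dl M x (dl M q (dl M y (dl M x m)))))))
  rw [e1]
  generalize dl M y (dl M x m) = n
  change dl M x (dl M p n + dl M q n + dl M p (dl M q n) + dl M q (dl M p n)) = _
  have e2 : dl M p (dl M x (dl M p n)) = dl M p n := ap' (ddd h hp hx xp.symm) _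
  have e3 : dl M q (dl M x (dl M q n)) = dl M q n := ap' (ddd h hq hx xq.symm) _
  rw [e2, e3, map_add, map_add, map_add]
  abel

/-- the norm of `ζ` kills `[M, f]` -/
theorem N_zeta {f g k : H} (A : Aff D f g k) (m : M) :
    N (Aff.zeta f g k) (m + f • m) = 0 := by
  obtain ⟨c1, c2, hz3⟩ := A.zeta_spec h
  have hff := h.sq f A.hf
  have hzf := A.commute_f h
  have e : N (Aff.zeta f g k) (f • m) = f • N (Aff.zeta f g k) m := by
    have e1 : Aff.zeta f g k * f = f * Aff.zeta f g k := by
      calc Aff.zeta f g k * f = (f * f) * Aff.zeta f g k * f := by rw [hff, one_mul]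
        _ = f * (f * Aff.zeta f g k * f) := by simp only [mul_assoc]
        _ = f * Aff.zeta f g k := by rw [hzf]
    have e2 : Aff.zeta f g k * Aff.zeta f g k * f = f * (Aff.zeta f g k * Aff.zeta f g k) := by
      rw [mul_assoc, e1, ← mul_assoc, e1, mul_assoc]
    simp only [N_def, smul_add, smul_smul, e1, e2]
  rw [N_add, e, A.fix_f h (smul_N hz3 m), h.two]

/-- on `[M, x]`, `1 + p` is `x p` for `p` not commuting with `x` -/
theorem dl_eq_smul {x p : H} (hx : x ∈ D) (hp : p ∈ D) (xp : x * p ≠ p * x) (m : M) :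
    dl M p (dl M x m) = (x * p) • dl M x m := by
  have e1 : dl M x (dl M p (dl M x m)) = dl M x m := ap' (ddd h hx hp xp) _
  have hxn : x • dl M x m = dl M x m := h.fix_self hx m
  rw [dl_apply x, dl_apply p, smul_add, hxn] at e1
  rw [dl_apply p, mul_smul]
  generalize dl M x m = n at *
  calc n + p • n = (n + p • n + (n + x • p • n)) + (n + x • p • n) := by
        rw [add_assoc, h.two, add_zero]
    _ = n + (n + x • p • n) := by rw [e1]
    _ = (n + n) + x • p • n := by abel
    _ = x • p • n := by rw [h.two, zero_add]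

theorem gam_eq_hol {x p q : H} (hx : x ∈ D) (hp : p ∈ D) (hq : q ∈ D) (xp : x * p ≠ p * x)
    (xq : x * q ≠ q * x) (pq : p * q ≠ q * p) (m : M) :
    dl M x (dl M q (dl M p (dl M x m))) = SC.hol x p q • dl M x m := by
  have e1 := dl_eq_smul h hx hp xp m
  have e2 := dl_eq_smul h hp hq pq (dl M x m)
  have e3 := dl_eq_smul h hq hx xq.symm (dl M p (dl M x m))
  rw [e3, e2, e1]
  unfold SC.hol
  simp only [mul_smul]

theorem hol_eq {x a b : H} (A : Aff D x a b) : SC.hol x a b = (Aff.zeta x a b)⁻¹ := by
  obtain ⟨c1, c2, -⟩ := A.zeta_spec h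
  have hxx := h.sq x A.hf
  have haa := h.sq a A.hg
  have hbb := h.sq b A.hh
  have c3 : Commute ((x * a) * (x * b)) (Aff.zeta x a b) := c1.mul_left c2
  have e1 : SC.hol x a b = ((x * a) * (x * b))⁻¹ * ((x * b) * (x * a)) := by
    unfold SC.hol
    rw [mul_inv_rev, mul_inv_rev, mul_inv_rev, inv_of_sq hxx, inv_of_sq haa, inv_of_sq hbb]
    calc b * x * (a * b) * (x * a) = b * x * a * (x * x) * b * (x * a) := by
          rw [hxx, mul_one]; simp only [mul_assoc]
      _ = _ := by simp only [mul_assoc]
  have e2 : (x * b) * (x * a) = (Aff.zeta x a b)⁻¹ * ((x * a) * (x * b)) := by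
    unfold Aff.zeta
    group
  rw [e1, e2, ← c3.inv_right.eq, inv_mul_cancel_left]

theorem gam_om {x a b : H} (A : Aff D x a b) : Om (gam M x a b) := by
  apply gam_ext
  intro m
  have g1 := gam_eq_hol h A.hf A.hg A.hh A.fg A.fh A.gh m
  change dl M x (dl M b (dl M a (dl M x (dl M b (dl M a (dl M x m)))))) =
    dl M x (dl M b (dl M a (dl M x m))) + dl M x m
  have g2 := gam_eq_hol h A.hf A.hg A.hh A.fg A.fh A.gh (dl M b (dl M a (dl M x m)))
  rw [g2, g1, hol_eq h A]
  have hN := N_zeta h A m
  obtain ⟨-, -, h3⟩ := A.zeta_spec h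
  rw [← dl_apply] at hN
  generalize dl M x m = n at *
  generalize Aff.zeta x a b = z at *
  have hi : z⁻¹ = z * z := inv_eq_mul_self h3
  have e4 : z⁻¹ • z⁻¹ • n = z • n := by
    rw [hi, smul_smul]
    have : z * z * (z * z) = z := by
      calc z * z * (z * z) = (z * z * z) * z := by simp only [mul_assoc]
        _ = z := by rw [h3, one_mul]
    rw [this]
  rw [e4, hi]
  rw [N_def] at hN
  -- n + z n + z z n = 0
  calc z • n = (n + z • n + (z * z) • n) + ((z * z) • n + n) := by
        calc z • n = z • n + ((z * z) • n + (z * z) • n) + (n + n) := by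
              rw [h.two, h.two, add_zero, add_zero]
          _ = _ := by abel
    _ = (z * z) • n + n := by rw [hN, zero_add]

/-- the same at another base point -/
theorem kappa {x a b y : H} (hx : x ∈ D) (A : Aff D a b y) (xa : x * a ≠ a * x)
    (xb : x * b ≠ b * x) (xy : x * y ≠ y * x) :
    Om (gam M x y a * gam M x b y * gam M x a b) := by
  have ha := A.hf
  have hb := A.hg
  have hy := A.hh
  have hOm := gam_om h A
  have e0 : ∀ m : M, dl M x (dl M a (dl M y (dl M x (dl M y (dl M b (dl M x (dl M b (dl M a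
      (dl M x m))))))))) = dl M x (dl M a (dl M y (dl M b (dl M a (dl M x m))))) := by
    intro m
    have e1 : dl M b (dl M x (dl M b (dl M a (dl M x m)))) = dl M b (dl M a (dl M x m)) :=
      ap' (ddd h hb hx xb.symm) _
    rw [e1]
    have e2 : dl M y (dl M x (dl M y (dl M b (dl M a (dl M x m))))) =
      dl M y (dl M b (dl M a (dl M x m))) := ap' (ddd h hy hx xy.symm) _
    rw [e2]
  apply gam_ext
  intro m
  change dl M x (dl M a (dl M y (dl M x (dl M y (dl M b (dl M x (dl M b (dl M a
      (dl M x (dl M a (dl M y (dl M x (dl M y (dl M b (dl M x (dl M b (dl M a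
      (dl M x m)))))))))))))))))) = dl M x (dl M a (dl M y (dl M x (dl M y (dl M b (dl M x
      (dl M b (dl M a (dl M x m))))))))) + dl M x m
  rw [e0 m, e0]
  -- now use the relation at `a`
  have e3 : ∀ n : M, dl M a (dl M x (dl M a n)) = dl M a n := fun n => ap' (ddd h ha hx xa.symm) n
  rw [e3]
  have e5 := congrArg (fun f : AddMonoid.End (B M a) =>
    ((f ⟨dl M a (dl M x m), dl_mem a _⟩ : B M a) : M)) hOm
  change dl M a (dl M y (dl M b (dl M a (dl M y (dl M b (dl M a (dl M x m))))))) =
    dl M a (dl M y (dl M b (dl M a (dl M x m)))) + dl M a (dl M x m) at e5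
  rw [e5, map_add]
  congr 1
  exact ap' (ddd h hx ha xa) _

end

/-- the nine points of the affine plane `⟨x, a, b⟩` -/
def plane (x a b : H) : Set H :=
  {x, a, x * a * x, b, x * b * x, a * b * a, x * (a * b * a) * x, (x * a * x) * b * (x * a * x),
    a * (x * b * x) * a}

theorem comm_conj {y p q : H} (hq : q * q = 1) (e : (q * y * q) * p = p * (q * y * q)) :
    y * (q * p * q) = (q * p * q) * y := by
  calc y * (q * p * q) = (q * q) * y * (q * q) * q * p * q := by
        rw [hq, one_mul, mul_one]; simp only [mul_assoc]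
    _ = q * ((q * y * q) * (q * q) * p) * q := by simp only [mul_assoc]
    _ = q * ((q * y * q) * p) * q := by rw [hq, mul_one]
    _ = q * (p * (q * y * q)) * q := by rw [e]
    _ = q * p * q * y * (q * q) := by simp only [mul_assoc]
    _ = (q * p * q) * y := by rw [hq, mul_one]

section

variable (h : IsTM D M)
include h

theorem conj_mem {a b : H} (ha : a ∈ D) (hb : b ∈ D) : a * b * a ∈ D := by
  have := h.conj a b hb
  rwa [inv_of_sq (h.sq a ha)] at this

/-- **No member of `D` fails to commute with all points of an affine plane.** -/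
theorem not_all [Finite M] {x a b y : H} (A : Aff D x a b) (hy : y ∈ D)
    (hpl : ∀ p ∈ plane x a b, y * p ≠ p * y) (m : M) : m + x • m = 0 := by
  have hx := A.hf
  have ha := A.hg
  have hb := A.hh
  have xa := A.fg
  have xb := A.fh
  have ab := A.gh
  have hxx := h.sq x hx
  have haa := h.sq a ha
  have hbb := h.sq b hb
  have nx : y * x ≠ x * y := hpl _ (Or.inl rfl)
  have na : y * a ≠ a * y := hpl _ (Or.inr (Or.inl rfl))
  have na' : y * (x * a * x) ≠ (x * a * x) * y := hpl _ (Or.inr (Or.inr (Or.inl rfl)))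
  have nb : y * b ≠ b * y := hpl _ (Or.inr (Or.inr (Or.inr (Or.inl rfl))))
  have nb' : y * (x * b * x) ≠ (x * b * x) * y :=
    hpl _ (Or.inr (Or.inr (Or.inr (Or.inr (Or.inl rfl)))))
  have nc : y * (a * b * a) ≠ (a * b * a) * y :=
    hpl _ (Or.inr (Or.inr (Or.inr (Or.inr (Or.inr (Or.inl rfl))))))
  have nc' : y * (x * (a * b * a) * x) ≠ (x * (a * b * a) * x) * y :=
    hpl _ (Or.inr (Or.inr (Or.inr (Or.inr (Or.inr (Or.inr (Or.inl rfl)))))))
  have nd : y * ((x * a * x) * b * (x * a * x)) ≠ ((x * a * x) * b * (x * a * x)) * y :=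
    hpl _ (Or.inr (Or.inr (Or.inr (Or.inr (Or.inr (Or.inr (Or.inr (Or.inl rfl))))))))
  have nd' : y * (a * (x * b * x) * a) ≠ (a * (x * b * x) * a) * y :=
    hpl _ (Or.inr (Or.inr (Or.inr (Or.inr (Or.inr (Or.inr (Or.inr (Or.inr rfl))))))))
  have ha' : x * a * x ∈ D := conj_mem h hx ha
  have hb' : x * b * x ∈ D := conj_mem h hx hb
  -- x and the images under x
  have xa' : x * (x * a * x) ≠ (x * a * x) * x := by
    intro e
    apply xa
    have e1 : x * (x * a * x) = a * x := by
      calc x * (x * a * x) = (x * x) * a * x := by simp only [mul_assoc]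
        _ = a * x := by rw [hxx, one_mul]
    have e2 : (x * a * x) * x = x * a := by rw [mul_assoc, hxx, mul_one]
    rw [← e2, ← e, e1]
  have xb' : x * (x * b * x) ≠ (x * b * x) * x := by
    intro e
    apply xb
    have e1 : x * (x * b * x) = b * x := by
      calc x * (x * b * x) = (x * x) * b * x := by simp only [mul_assoc]
        _ = b * x := by rw [hxx, one_mul]
    have e2 : (x * b * x) * x = x * b := by rw [mul_assoc, hxx, mul_one]
    rw [← e2, ← e, e1]
  have ab' : a * (x * b * x) ≠ (x * b * x) * a := by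
    intro e
    apply A.fgfh
    exact (comm_conj hxx e.symm).symm
  have a'b := A.fgfh
  have h2R := two_R h x
  set hh := gam M x a b with hhdef
  set α := gam M x y a with hαdef
  set β := gam M x y b with hβdef
  have Oh : Om hh := gam_om h A
  -- inverse relations
  have inv1 : ∀ {p : H}, p ∈ D → x * p ≠ p * x → y * p ≠ p * y → y * (x * p * x) ≠ (x * p * x) * y →
      Om (gam M x y p) ∧ gam M x p y = 1 + gam M x y p := by
    intro p hp xp yp yp'
    have A1 : Aff D x y p := ⟨hx, hy, hp, nx.symm, xp, yp, fun e => yp' (comm_conj hxx e)⟩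
    have O1 := gam_om h A1
    exact ⟨O1, O1.inv h2R (gam_inv h hx hp hy xp nx.symm yp.symm)⟩
  have xax2 : x * (x * a * x) * x = a := by
    calc x * (x * a * x) * x = (x * x) * a * (x * x) := by simp only [mul_assoc]
      _ = a := by rw [hxx, one_mul, mul_one]
  have xbx2 : x * (x * b * x) * x = b := by
    calc x * (x * b * x) * x = (x * x) * b * (x * x) := by simp only [mul_assoc]
      _ = b := by rw [hxx, one_mul, mul_one]
  obtain ⟨Oα, iα⟩ := inv1 ha xa na na'
  obtain ⟨Oβ, iβ⟩ := inv1 hb xb nb nb'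
  obtain ⟨Oα', iα'⟩ := inv1 ha' xa' na' (by rw [xax2]; exact na)
  obtain ⟨Oβ', iβ'⟩ := inv1 hb' xb' nb' (by rw [xbx2]; exact nb)
  have eα' : gam M x y (x * a * x) = 1 + α := gam_third_right h hx ha hy xa nx.symm
  have eβ' : gam M x y (x * b * x) = 1 + β := gam_third_right h hx hb hy xb nx.symm
  have e_a'b : gam M x (x * a * x) b = 1 + hh := gam_third_left h hx ha hb xa xb
  have e_ab' : gam M x a (x * b * x) = 1 + hh := gam_third_right h hx hb ha xb xa
  have e_a'b' : gam M x (x * a * x) (x * b * x) = hh := by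
    rw [gam_third_left h hx ha hb' xa xb', e_ab', ← add_assoc, h2R, zero_add]
  have e_ba : gam M x b a = 1 + hh := Oh.inv h2R (gam_inv h hx hb ha xb xa ab.symm)
  have e_ba' : gam M x b (x * a * x) = hh := by
    rw [gam_third_right h hx ha hb xa xb, e_ba, ← add_assoc, h2R, zero_add]
  -- kappa relations
  have A1 : Aff D a b y := ⟨ha, hb, hy, ab, na.symm, nb.symm, nc.symm⟩
  have A2 : Aff D (x * a * x) b y := ⟨ha', hb, hy, a'b, na'.symm, nb.symm, nd.symm⟩
  have A3 : Aff D a (x * b * x) y := ⟨ha, hb', hy, ab', na.symm, nb'.symm, nd'.symm⟩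
  have a'b' : (x * a * x) * (x * b * x) ≠ (x * b * x) * (x * a * x) := by
    intro e
    apply ab
    have e1 : x * ((x * a * x) * (x * b * x)) * x = a * b := by
      calc x * ((x * a * x) * (x * b * x)) * x = (x * x) * a * (x * x) * b * (x * x) := by
            simp only [mul_assoc]
        _ = a * b := by rw [hxx, one_mul, mul_one, mul_one]
    have e2 : x * ((x * b * x) * (x * a * x)) * x = b * a := by
      calc x * ((x * b * x) * (x * a * x)) * x = (x * x) * b * (x * x) * a * (x * x) := by
            simp only [mul_assoc]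
        _ = b * a := by rw [hxx, one_mul, mul_one, mul_one]
    rw [← e1, ← e2, e]
  have A4 : Aff D (x * a * x) (x * b * x) y := by
    refine ⟨ha', hb', hy, a'b', na'.symm, nb'.symm, ?_⟩
    have e : x * a * x * (x * b * x) * (x * a * x) = x * (a * b * a) * x := by
      calc x * a * x * (x * b * x) * (x * a * x) = x * a * (x * x) * b * (x * x) * a * x := by
            simp only [mul_assoc]
        _ = x * (a * b * a) * x := by rw [hxx]; simp only [mul_one, mul_assoc]
    rw [e]
    exact nc'.symm
  have k1 := kappa h hx A1 xa xb nx.symm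
  have k2 := kappa h hx A2 xa' xb nx.symm
  have k3 := kappa h hx A3 xa xb' nx.symm
  have k4 := kappa h hx A4 xa' xb' nx.symm
  rw [iβ] at k1
  rw [eα', iβ, e_a'b] at k2
  rw [iβ', eβ', e_ab', ← add_assoc, h2R, zero_add] at k3
  rw [eα', iβ', eβ', e_a'b', ← add_assoc, h2R, zero_add] at k4
  -- third points
  have hc : a * b * a ∈ D := conj_mem h ha hb
  have hd : (x * a * x) * b * (x * a * x) ∈ D := conj_mem h ha' hb
  have t1 := gam_third h (y := y) hx ha hb xa xb ab.symm
  have t2 := gam_third h (y := y) hx ha' hb xa' xb a'b.symm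
  have br1 : b * a * b = a * b * a := ((h.braid a ha b hb).resolve_left ab).symm
  have br2 : b * (x * a * x) * b = (x * a * x) * b * (x * a * x) :=
    ((h.braid _ ha' b hb).resolve_left a'b).symm
  have plane_ne : ∀ {p : H}, p ∈ D → y * p ≠ p * y → y * (x * p * x) ≠ (x * p * x) * y →
      x * p ≠ p * x → Om (gam M x y p) := fun hp h1 h2 h3 => (inv1 hp h3 h1 h2).1
  have xc : x * (a * b * a) ≠ (a * b * a) * x := by
    intro e
    apply A.fgfh
    have e1 : (a * x * a) * b = b * (a * x * a) := by
      have := comm_conj (y := x) (p := b) haa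
      have e2 : x * (a * b * a) = (a * b * a) * x := e
      -- conjugate back
      calc (a * x * a) * b = a * (x * (a * b * a)) * a := by
            calc (a * x * a) * b = (a * x * a) * b * (a * a) := by rw [haa, mul_one]
              _ = _ := by simp only [mul_assoc]
        _ = a * ((a * b * a) * x) * a := by rw [e2]
        _ = (a * a) * b * (a * x * a) := by simp only [mul_assoc]
        _ = b * (a * x * a) := by rw [haa, one_mul]
    rwa [(h.braid x hx a ha).resolve_left xa]
  have xd : x * ((x * a * x) * b * (x * a * x)) ≠ ((x * a * x) * b * (x * a * x)) * x := by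
    intro e
    have haa' := h.sq _ ha'
    have e1 : ((x * a * x) * x * (x * a * x)) * b = b * ((x * a * x) * x * (x * a * x)) := by
      generalize x * a * x = a' at *
      calc (a' * x * a') * b = a' * (x * (a' * b * a')) * a' := by
            calc (a' * x * a') * b = (a' * x * a') * b * (a' * a') := by rw [haa', mul_one]
              _ = _ := by simp only [mul_assoc]
        _ = a' * ((a' * b * a') * x) * a' := by rw [e]
        _ = (a' * a') * b * (a' * x * a') := by simp only [mul_assoc]
        _ = b * (a' * x * a') := by rw [haa', one_mul]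
    have e2 : (x * a * x) * x * (x * a * x) = a := by
      calc (x * a * x) * x * (x * a * x) = x * a * (x * x) * x * a * x := by simp only [mul_assoc]
        _ = (x * a * x) * a * x := by rw [hxx, mul_one]
        _ = (a * x * a) * a * x := by rw [(h.braid x hx a ha).resolve_left xa]
        _ = a * x * (a * a) * x := by simp only [mul_assoc]
        _ = a := by rw [haa, mul_one, mul_assoc, hxx, mul_one]
    rw [e2] at e1
    exact ab e1
  have c1 := plane_ne hc nc nc' xc
  have nd'' : y * (x * ((x * a * x) * b * (x * a * x)) * x) ≠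
      (x * ((x * a * x) * b * (x * a * x)) * x) * y := by
    have e : x * ((x * a * x) * b * (x * a * x)) * x = a * (x * b * x) * a := by
      calc x * ((x * a * x) * b * (x * a * x)) * x = (x * x) * a * x * b * x * a * (x * x) := by
            simp only [mul_assoc]
        _ = a * (x * b * x) * a := by rw [hxx, one_mul, mul_one]; simp only [mul_assoc]
    rw [e]
    exact nd'
  have c2 := plane_ne hd nd nd'' xd
  rw [← br1, t1, e_ba, ← add_assoc, h2R, zero_add] at c1
  rw [← br2, t2, e_a'b, e_ba', eα', ← add_assoc, h2R, zero_add] at c2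
  have := contradiction (two_B h x) Oh Oα Oβ k1 k2 k3 k4 c1 c2 ⟨dl M x m, dl_mem x m⟩
  exact congrArg Subtype.val this

end

end Cfsg.Agent.H853.Hol
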