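import Cfsg.Agent.H853.VEA
import Cfsg.Agent.H854.Unique
import Cfsg.Agent.H853.Disc
import Cfsg.Agent.H853.TDefs
import Cfsg.Agent.S5349

/-!
# S5554: basic set-up
-/

set_option autoImplicit false
set_option linter.style.haveILetI false

namespace Cfsg.Agent.H853.Setup

open Subgroup Cfsg.Agent.H854 Cfsg.Agent.H854.TM Cfsg.Agent.H854.ClassBasic Cfsg.Agent.H854.Ab
open Cfsg.Agent.H853

universe u

/-- `U` as a module for `G / V` -/
structure ModEmb {G : Type*} [Group G] (V U : Subgroup G) [V.Normal] (M : Type*)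
    [AddCommGroup M] [DistribMulAction (G ⧸ V) M] where
  ι : M → G
  zero : ι 0 = 1
  add : ∀ m n, ι (m + n) = ι m * ι n
  inj : ∀ m n, ι m = ι n → m = n
  smul : ∀ (g : G) (m : M), ι (QuotientGroup.mk' V g • m) = g * ι m * g⁻¹
  mem : ∀ m, ι m ∈ U
  surj : ∀ x ∈ U, ∃ m, ι m = x

theorem exists_modEmb {G : Type u} [Group G] {D : Set G} (h : Cls D) {V U : Subgroup G}
    [hVn : V.Normal] (hV : IsPGroup 2 V) (hUn : U.Normal) (hUV : U ≤ V)
    (hc : ∀ u ∈ U, ∀ v ∈ V, v * u = u * v) (h2 : ∀ u ∈ U, u * u = 1) :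
    ∃ (M : Type u) (_ : AddCommGroup M) (_ : DistribMulAction (G ⧸ V) M),
      Nonempty (ModEmb V U M) ∧ IsTM (QuotientGroup.mk' V '' D) M := by
  classical
  letI : AddCommGroup (Additive U) := Unique.addCommGroupOf U
    (fun a ha b hb => (hc a ha b (hUV hb)).symm)
  have htrivV : ∀ x ∈ V, MulAut.conjNormal (H := U) x = 1 := by
    intro x hx
    ext y
    rw [MulAut.conjNormal_apply, hc y y.2 x hx, mul_inv_cancel_right]
    rfl
  let φ : G ⧸ V →* MulAut U := QuotientGroup.lift V MulAut.conjNormal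
    (fun x hx => by rw [MonoidHom.mem_ker]; exact htrivV x hx)
  letI actQ : DistribMulAction (G ⧸ V) (Additive U) := Unique.actOf U φ
  have hsm : ∀ (g : G) (m : Additive U),
      ((Additive.toMul (QuotientGroup.mk' V g • m) : U) : G) =
        g * ((Additive.toMul m : U) : G) * g⁻¹ := by
    intro g m
    exact MulAut.conjNormal_apply g _
  have hext : ∀ m n : Additive U, ((Additive.toMul m : U) : G) = ((Additive.toMul n : U) : G) →
      m = n := fun m n h => Additive.toMul.injective (Subtype.ext h)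
  have hadd : ∀ m n : Additive U, ((Additive.toMul (m + n) : U) : G) =
      ((Additive.toMul m : U) : G) * ((Additive.toMul n : U) : G) := fun m n => rfl
  have htwo : ∀ m : Additive U, m + m = 0 := by
    intro m
    apply hext
    rw [hadd]
    exact h2 _ (Additive.toMul m).2
  refine ⟨Additive U, inferInstance, inferInstance, ⟨⟨fun m => ((Additive.toMul m : U) : G), rfl,
    fun _ _ => rfl, fun m n e => hext m n e, hsm, fun m => (Additive.toMul m).2,
    fun x hx => ⟨Additive.ofMul ⟨x, hx⟩, rfl⟩⟩⟩, htwo, ?_, ?_, ?_, ?_, ?_⟩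
  · rintro _ ⟨d, hd, rfl⟩
    rw [← map_mul, h.sq d hd, map_one]
  · intro g
    obtain ⟨g, rfl⟩ := QuotientGroup.mk'_surjective V g
    rintro _ ⟨d, hd, rfl⟩
    exact ⟨g * d * g⁻¹, h.conj g d hd, by simp only [map_mul, map_inv]⟩
  · rintro _ ⟨d, hd, rfl⟩ _ ⟨e, he, rfl⟩
    rcases h.braid d hd e he with h1 | h1
    · left
      rw [← map_mul, h1, map_mul]
    · right
      rw [← map_mul, ← map_mul, h1, map_mul, map_mul]
  · rintro _ ⟨d, hd, rfl⟩ _ ⟨e, he, rfl⟩ hde m
    have hde' := VEA.comm_quot h hV hd he hde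
    apply hext
    rw [hsm, hadd, hsm]
    have hdd := h.sq d hd
    have hee := h.sq e he
    have hm := (Additive.toMul m).2
    generalize hx : ((Additive.toMul m : U) : G) = x at hm ⊢
    have hxx : x * x = 1 := h2 x hm
    have h3 := commute_conj_of_commute h hVn hV hd he hde' (hUV hm)
    rw [inv_of_sq hxx] at h3
    rw [inv_of_sq hdd, inv_of_sq hee]
    calc e * (x * (d * x * d)) * e = (e * (x * d * x)) * (d * e) := by simp only [mul_assoc]
      _ = ((x * d * x) * e) * (e * d) := by rw [← h3, hde']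
      _ = (x * d * x) * (e * e) * d := by simp only [mul_assoc]
      _ = x * (d * x * d) := by rw [hee, mul_one]; simp only [mul_assoc]
  · rintro _ ⟨d, hd, rfl⟩ _ ⟨e, he, rfl⟩ hde m hm
    have hde' : d * e ≠ e * d := fun e1 => hde (by rw [← map_mul, e1, map_mul])
    have h3 := congrArg (fun y : Additive U => ((Additive.toMul y : U) : G)) hm
    rw [← map_mul, hsm] at h3
    apply hext
    rw [hsm]
    have hmem := (Additive.toMul m).2
    generalize hx : ((Additive.toMul m : U) : G) = x at h3 hmem ⊢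
    have h4 : (d * e) * x = x * (d * e) := by
      rw [mul_inv_eq_iff_eq_mul] at h3
      exact h3
    have h5 := commute_of_commute_mul h hVn hV hd he hde' (hUV hmem) h4
    rw [h5, mul_inv_cancel_right]

/-- the central involutions of `V` -/
def Om {G : Type*} [Group G] (V : Subgroup G) : Subgroup G where
  carrier := {u | u ∈ V ∧ (∀ v ∈ V, v * u = u * v) ∧ u * u = 1}
  one_mem' := ⟨one_mem _, fun v _ => by rw [mul_one, one_mul], mul_one 1⟩
  mul_mem' := by
    rintro a b ⟨ha, hac, ha2⟩ ⟨hb, hbc, hb2⟩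
    refine ⟨mul_mem ha hb, fun v hv => ?_, ?_⟩
    · rw [← mul_assoc, hac v hv, mul_assoc, hbc v hv, mul_assoc]
    · calc a * b * (a * b) = a * (b * a) * b := by simp only [mul_assoc]
        _ = (a * a) * (b * b) := by rw [hac b hb]; simp only [mul_assoc]
        _ = 1 := by rw [ha2, hb2, one_mul]
  inv_mem' := by
    rintro a ⟨ha, hac, ha2⟩
    rw [inv_of_sq ha2]
    exact ⟨ha, hac, ha2⟩

theorem Om_normal {G : Type*} [Group G] (V : Subgroup G) [hV : V.Normal] : (Om V).Normal := by
  refine ⟨?_⟩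
  rintro a ⟨ha, hac, ha2⟩ g
  refine ⟨hV.conj_mem a ha g, fun v hv => ?_, ?_⟩
  · have h1 := hac (g⁻¹ * v * g⁻¹⁻¹) (hV.conj_mem v hv g⁻¹)
    calc v * (g * a * g⁻¹) = g * ((g⁻¹ * v * g⁻¹⁻¹) * a) * g⁻¹ := by group
      _ = g * (a * (g⁻¹ * v * g⁻¹⁻¹)) * g⁻¹ := by rw [h1]
      _ = g * a * g⁻¹ * v := by group
  · calc g * a * g⁻¹ * (g * a * g⁻¹) = g * (a * a) * g⁻¹ := by group
      _ = 1 := by rw [ha2]; group

theorem Om_ne_bot {G : Type*} [Group G] [Finite G] {V : Subgroup G} (hV : IsPGroup 2 V)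
    (hne : V ≠ ⊥) : Om V ≠ ⊥ := by
  haveI : Fact (Nat.Prime 2) := ⟨Nat.prime_two⟩
  haveI : Nontrivial V := (Subgroup.nontrivial_iff_ne_bot V).2 hne
  haveI := hV.center_nontrivial
  have hc : IsPGroup 2 (center V) := hV.to_subgroup _
  obtain ⟨k, hk, hcard⟩ := (IsPGroup.nontrivial_iff_card hc).1 inferInstance
  have h2 : 2 ∣ Nat.card (center V) := by rw [hcard]; exact dvd_pow_self 2 hk.ne'
  obtain ⟨z, hz⟩ := exists_prime_orderOf_dvd_card' 2 h2
  intro e
  have hz2 : z * z = 1 := by rw [← pow_two, ← hz]; exact pow_orderOf_eq_one z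
  have hm : ((z : V) : G) ∈ Om V := by
    refine ⟨(z : V).2, fun v hv => ?_, ?_⟩
    · have h1 := mem_center_iff.1 z.2 ⟨v, hv⟩
      exact congrArg Subtype.val h1
    · have h1 := congrArg (fun y : center V => ((y : V) : G)) hz2
      simpa using h1
  rw [e, mem_bot] at hm
  have h1 : z = 1 := Subtype.ext (Subtype.ext hm)
  rw [h1, orderOf_one] at hz
  omega

theorem exists_mod {G : Type u} [Group G] [Finite G] {D : Set G} (h : Cls D)
    (hZ : center G = ⊥) {V : Subgroup G} [hVn : V.Normal] (hV : IsPGroup 2 V) (hne : V ≠ ⊥) :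
    ∃ (M : Type u) (_ : AddCommGroup M) (_ : DistribMulAction (G ⧸ V) M),
      Finite M ∧ IsTM (QuotientGroup.mk' V '' D) M ∧
        ∃ x ∈ QuotientGroup.mk' V '' D, ∃ m : M, m + x • m ≠ 0 := by
  obtain ⟨M, i1, i2, ⟨I⟩, hM⟩ := exists_modEmb h (U := Om V) hV (Om_normal V)
    (fun u hu => hu.1) (fun u hu => hu.2.1) (fun u hu => hu.2.2)
  haveI : Finite M := Finite.of_injective I.ι (fun a b e => I.inj a b e)
  refine ⟨M, i1, i2, this, hM, ?_⟩
  by_contra hall
  push Not at hall
  apply Om_ne_bot hV hne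
  rw [eq_bot_iff]
  intro u hu
  rw [← hZ, mem_center_iff]
  obtain ⟨m, rfl⟩ := I.surj u hu
  intro g
  have h1 : closure D ≤ centralizer {I.ι m} := by
    rw [closure_le]
    intro d hd
    rw [SetLike.mem_coe, mem_centralizer_singleton_iff]
    have h2 := hall _ ⟨d, hd, rfl⟩ m
    have h3 : QuotientGroup.mk' V d • m = m := by
      have h4 := hM.two m
      have h5 : m + QuotientGroup.mk' V d • m = m + m := by rw [h2, h4]
      exact add_left_cancel h5
    have h4 := I.smul d m
    rw [h3] at h4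
    exact (eq_mul_inv_iff_mul_eq.1 h4).symm
  rw [h.gen] at h1
  exact (mem_centralizer_singleton_iff.1 (h1 (mem_top g)))

theorem not_mem {G : Type*} [Group G] [Finite G] {D : Set G} (h : Cls D)
    (hZ : center G = ⊥) {V : Subgroup G} [hVn : V.Normal] (hV : IsPGroup 2 V) :
    ∀ d ∈ D, d ∉ V := by
  intro d hd hdV
  have h1 : V = ⊤ := by
    rw [eq_top_iff, ← h.gen, closure_le]
    intro e he
    obtain ⟨g, rfl⟩ := h.trans d hd e he
    exact hVn.conj_mem d hdV g
  haveI : Fact (Nat.Prime 2) := ⟨Nat.prime_two⟩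
  have h2 : IsPGroup 2 G := by
    rw [h1] at hV
    exact hV.of_equiv Subgroup.topEquiv
  haveI : Nontrivial G := ⟨d, 1, h.ne d hd⟩
  haveI := h2.center_nontrivial
  exact (Subgroup.nontrivial_iff_ne_bot _).1 this hZ

theorem two_members {G : Type*} [Group G] {D : Set G} (h : Cls D)
    (hZ : center G = ⊥) : ∃ a ∈ D, ∃ b ∈ D, a ≠ b := by
  by_contra hall
  push Not at hall
  obtain ⟨d, hd⟩ := h.nonempty
  apply h.ne d hd
  rw [← mem_bot, ← hZ, mem_center_iff]
  intro g
  have h1 : closure D ≤ centralizer {d} := by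
    rw [closure_le]
    intro e he
    rw [SetLike.mem_coe, mem_centralizer_singleton_iff, hall e he d hd]
  rw [h.gen] at h1
  exact (mem_centralizer_singleton_iff.1 (h1 (mem_top g)))

/-- `S5349` -/
theorem class_eq {G : Type*} [Group G] [Finite G] {D : Set G} (h : Cls D)
    (hZ : center G = ⊥) {d e : G} (hd : d ∈ D) (he : e ∈ D) (hm : d⁻¹ * e ∈ Cfsg.pCore 2 G) :
    ∃ v ∈ Cfsg.pCore 2 G, e = v * d * v⁻¹ := by
  have h1 := Cfsg.Agent.S5349.result (Disc.ttc_of_cls h) (two_members h hZ) hd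
  have h2 : e ∈ {v : G | v ∈ D ∧ d⁻¹ * v ∈ Cfsg.pCore 2 G} := ⟨he, hm⟩
  rw [← h1.1, h1.2] at h2
  exact h2

/-- a closed section gives a complement -/
theorem compl_of_section {G : Type*} [Group G] [Finite G] {D : Set G} (h : Cls D)
    (hZ : center G = ⊥) {V : Subgroup G} [hVn : V.Normal]
    (hab : ∀ a ∈ V, ∀ b ∈ V, a * b = b * a) {S : Set G} (hS : TDefs.ClosedSection D V S) :
    V.IsComplement' (closure S) := by
  have hconj : ∀ g ∈ closure S, ∀ s ∈ S, g * s * g⁻¹ ∈ S := by
    intro g hg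
    induction hg using closure_induction with
    | mem g hg => exact fun s hs => hS.conj g hg s hs
    | one => intro d hd; simpa using hd
    | mul a b _ _ iha ihb =>
      intro d hd
      have e : a * b * d * (a * b)⁻¹ = a * (b * d * b⁻¹) * a⁻¹ := by group
      rw [e]
      exact iha _ (ihb d hd)
    | inv a ha iha =>
      intro d hd
      let φ : S → S := fun d => ⟨a * d * a⁻¹, iha _ d.2⟩
      have hinj : Function.Injective φ := fun u v e => by
        have h1 : a * (u : G) * a⁻¹ = a * (v : G) * a⁻¹ := congrArg Subtype.val e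
        exact Subtype.ext (by simpa using h1)
      obtain ⟨u, hu⟩ := Finite.surjective_of_injective hinj ⟨d, hd⟩
      have h1 : a * (u : G) * a⁻¹ = d := congrArg Subtype.val hu
      have h2 : a⁻¹ * d * a⁻¹⁻¹ = u := by rw [← h1]; group
      rw [h2]
      exact u.2
  have htop : V ⊔ closure S = ⊤ := by
    rw [eq_top_iff, ← h.gen, closure_le]
    intro d hd
    obtain ⟨s, hs, hsd⟩ := hS.surj d hd
    have h1 : d = s * (s⁻¹ * d) := by group
    rw [h1]
    exact mul_mem (mem_sup_right (subset_closure hs)) (mem_sup_left hsd)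
  have hint : V ⊓ closure S = ⊥ := by
    rw [eq_bot_iff]
    rintro v ⟨hv, hvS⟩
    rw [← hZ, mem_center_iff]
    intro g
    have h1 : V ⊔ closure S ≤ centralizer {v} := by
      refine sup_le ?_ ?_
      · intro w hw
        rw [mem_centralizer_singleton_iff]
        exact hab w hw v hv
      · rw [closure_le]
        intro s hs
        rw [SetLike.mem_coe, mem_centralizer_singleton_iff]
        have h2 := hconj v hvS s hs
        have h3 : s⁻¹ * (v * s * v⁻¹) ∈ V := by
          have e : s⁻¹ * (v * s * v⁻¹) = (s⁻¹ * v * s⁻¹⁻¹) * v⁻¹ := by group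
          rw [e]
          exact mul_mem (hVn.conj_mem v hv s⁻¹) (inv_mem hv)
        have h4 := hS.inj s hs _ h2 h3
        calc s * v = v * s * v⁻¹ * v := by rw [← h4]
          _ = v * s := by group
    rw [htop] at h1
    exact mem_centralizer_singleton_iff.1 (h1 (mem_top g))
  exact Subgroup.isComplement'_of_disjoint_and_mul_eq_univ (disjoint_iff.2 hint) (by
    rw [← Subgroup.normal_mul, htop]; rfl)

end Cfsg.Agent.H853.Setup
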