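import Cfsg.Agent.H853.Prim

/-!
# S5554: the case where all `ζ` lie in `K_x ⊔ Z(H)`
-/

set_option autoImplicit false
set_option linter.style.haveILetI false

namespace Cfsg.Agent.H853.CaseC

open Subgroup Cfsg.Agent.H854 Cfsg.Agent.H854.TM Cfsg.Agent.H854.ClassBasic Cfsg.Agent.H854.Ab
open Cfsg.Agent.H853

section map

variable {G : Type*} [Group G] {D : Set G} {V : Subgroup G} [V.Normal]

theorem aff_map (h : Cls D) (hV : IsPGroup 2 V) {x a b : G} (A : Aff D x a b) :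
    Aff (QuotientGroup.mk' V '' D) (QuotientGroup.mk' V x) (QuotientGroup.mk' V a)
      (QuotientGroup.mk' V b) := by
  refine ⟨⟨x, A.hf, rfl⟩, ⟨a, A.hg, rfl⟩, ⟨b, A.hh, rfl⟩, ?_, ?_, ?_, ?_⟩
  · exact fun e => A.fg (VEA.comm_quot h hV A.hf A.hg e)
  · exact fun e => A.fh (VEA.comm_quot h hV A.hf A.hh e)
  · exact fun e => A.gh (VEA.comm_quot h hV A.hg A.hh e)
  · intro e
    apply A.fgfh
    apply VEA.comm_quot h hV (SC.conj_mem h A.hf A.hg) A.hh
    simpa only [map_mul] using e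

theorem W_comm_prim [Finite G] (h : Cls D) (hZ : center G = ⊥) (hV : IsPGroup 2 V)
    (hgen : ∀ d ∈ QuotientGroup.mk' V '' D, ∀ e ∈ QuotientGroup.mk' V '' D, d * e ≠ e * d →
      Kd (QuotientGroup.mk' V '' D) d ⊔ Kd (QuotientGroup.mk' V '' D) e = ⊤) :
    ∀ a ∈ W D V, ∀ b ∈ W D V, a * b = b * a := by
  apply VEA.W_comm_of
  intro d hd e he a ha b hb
  by_cases hde : d * e = e * d
  · exact Ad_comm h inferInstance hV hd he hde ha hb
  · exact VEA.Ad_comm_of_gen h hV hZ hd he (hgen _ ⟨d, hd, rfl⟩ _ ⟨e, he, rfl⟩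
      (fun e' => hde (VEA.comm_quot h hV hd he e'))) a ha b hb

end map

variable {H : Type*} [Group H] {E : Set H}

theorem relations (h : Cls E) {f g k : H} (A : Aff E f g k) :
    ((f * g) * (f * g) * (f * g) = 1) ∧ ((f * k) * (f * k) * (f * k) = 1) ∧
    (((f * g) * (f * k)) * ((f * g) * (f * k)) * ((f * g) * (f * k)) = 1) ∧
    (((f * g)⁻¹ * (f * k)) * ((f * g)⁻¹ * (f * k)) * ((f * g)⁻¹ * (f * k)) = 1) := by
  have hff := h.sq f A.hf
  have hgg := h.sq g A.hg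
  refine ⟨h.cube A.hf A.hg A.fg, h.cube A.hf A.hh A.fh, ?_, ?_⟩
  · have := h.cube (SC.conj_mem h A.hf A.hg) A.hh A.fgfh
    have e : (f * g) * (f * k) = (f * g * f) * k := by simp only [mul_assoc]
    rw [e]
    exact this
  · have e : (f * g)⁻¹ * (f * k) = g * k := by
      rw [mul_inv_rev, inv_of_sq hff, inv_of_sq hgg]
      calc g * f * (f * k) = g * (f * f) * k := by simp only [mul_assoc]
        _ = g * k := by rw [hff, mul_one]
    rw [e]
    exact h.cube A.hg A.hh A.gh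

theorem zeta_cube (h : Cls E) {f g k : H} (A : Aff E f g k) : Aff.zeta f g k ^ 3 = 1 := by
  obtain ⟨h1, h2, h3, h4⟩ := relations h A
  have := (TM.zeta_spec h1 h2 h3 h4).2.2
  rw [pow_succ, pow_two]
  exact this

/-- replace a central factor by a central `3`-element -/
theorem mem_three [Finite H] {K : Subgroup H} {z : H} (hz3 : z ^ 3 = 1) (hz : z ∈ K ⊔ center H) :
    ∃ k ∈ K, ∃ y ∈ Cfsg.pCore 3 H, y ∈ center H ∧ z = k * y := by
  haveI : Fact (Nat.Prime 3) := ⟨Nat.prime_three⟩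
  obtain ⟨k, hk, c, hc, rfl⟩ := VEA.mem_sup_of_norm (K := K) (Y := center H)
    (fun y hy k hk => by
      have : y * k = k * y := (mem_center_iff.1 hy k).symm
      rw [this, mul_inv_cancel_right]; exact hk) hz
  obtain ⟨s, m, hm, hcard⟩ := Nat.exists_eq_pow_mul_and_not_dvd (Nat.card_pos (α := H)).ne' 3
    (by norm_num)
  have hcc : Commute k c := mem_center_iff.1 hc k
  have hm2 : m ^ 2 % 3 = 1 := by
    have h1 : m % 3 = 1 ∨ m % 3 = 2 := by
      have : m % 3 ≠ 0 := fun e => hm (Nat.dvd_of_mod_eq_zero e)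
      omega
    rcases h1 with h1 | h1 <;> simp [Nat.pow_mod, h1]
  have e1 : (k * c) ^ (m ^ 2) = k * c := by
    conv_lhs => rw [← Nat.div_add_mod (m ^ 2) 3, hm2, pow_add, pow_mul, hz3, one_pow, one_mul,
      pow_one]
  have e2 : (k * c) ^ (m ^ 2) = k ^ (m ^ 2) * c ^ (m ^ 2) := hcc.mul_pow _
  refine ⟨k ^ (m ^ 2), pow_mem hk _, c ^ (m ^ 2), ?_, pow_mem hc _, by rw [← e2, e1]⟩
  have hcen : c ^ (m ^ 2) ∈ center H := pow_mem hc _
  have hn : (zpowers (c ^ (m ^ 2))).Normal := by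
    refine ⟨?_⟩
    intro n hn g
    have : n ∈ center H := (zpowers_le.2 hcen) hn
    rw [mem_center_iff.1 this g, mul_inv_cancel_right]
    exact hn
  have hp : IsPGroup 3 (zpowers (c ^ (m ^ 2))) := by
    have h3 : (c ^ (m ^ 2)) ^ (3 ^ s) = 1 := by
      rw [← pow_mul, pow_two, mul_assoc, mul_comm m (3 ^ s), ← hcard, mul_comm, pow_mul,
        pow_card_eq_one', one_pow]
    rintro ⟨y, hy⟩
    obtain ⟨i, rfl⟩ := mem_zpowers_iff.1 hy
    refine ⟨s, Subtype.ext ?_⟩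
    change ((c ^ (m ^ 2)) ^ i) ^ (3 ^ s) = 1
    rw [← zpow_natCast, ← zpow_mul, mul_comm, zpow_mul, zpow_natCast, h3, one_zpow]
  exact Cfsg.Agent.Lib.Cores.le_pCore hn hp (mem_zpowers _)

/-- a central element acting like `ζ` has no fixed points -/
theorem fix_of_central {M : Type*} [AddCommGroup M] [DistribMulAction H M] (h : Cls E)
    (hM : IsTM E M) {x a b k y : H} (A : Aff E x a b) (hk : k ∈ Kd E x) (hy : y ∈ center H)
    (hz : Aff.zeta x a b = k * y) {m : M} (hm : y • m = m) : ∀ e ∈ E, e • m = m := by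
  have hx := A.hf
  have hx0 : ∀ n : M, y • n = n → n + x • n = 0 := by
    intro n hn
    have h1 := Hol.N_zeta hM A n
    have h2 : y • (n + x • n) = n + x • n := by
      rw [smul_add, hn, smul_smul, ← mem_center_iff.1 hy x, ← smul_smul, hn]
    have h3 : Aff.zeta x a b • (n + x • n) = n + x • n := by
      rw [hz, mul_smul, h2]
      exact Disc.Kd_fix hM hx hk n
    rwa [N_of_fix hM.two h3] at h1
  intro e he
  obtain ⟨g, rfl⟩ := h.trans x hx e he
  have h4 : y • (g⁻¹ • m) = g⁻¹ • m := by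
    rw [smul_smul, ← mem_center_iff.1 hy g⁻¹, ← smul_smul, hm]
  have h5 := hx0 _ h4
  have h6 : x • g⁻¹ • m = g⁻¹ • m := by
    have h7 := hM.two (g⁻¹ • m)
    exact add_left_cancel (h5.trans h7.symm)
  rw [mul_smul, mul_smul, h6, smul_inv_smul]

section final

variable {G : Type*} [Group G] [Finite G] {D : Set G} {V : Subgroup G} [hn : V.Normal]

theorem elab_of (h : Cls D) (hZ : center G = ⊥) (hV : IsPGroup 2 V) (hDV : ∀ d ∈ D, d ∉ V)
    (hcl : ∀ d ∈ D, ∀ e ∈ D, d⁻¹ * e ∈ V → ∃ v ∈ V, e = v * d * v⁻¹)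
    (hA : ∀ a ∈ W D V, ∀ b ∈ W D V, a * b = b * a)
    (hz : ∀ x a b : G ⧸ V, Aff (QuotientGroup.mk' V '' D) x a b →
      Aff.zeta x a b ∈ Kd (QuotientGroup.mk' V '' D) x ⊔ center (G ⧸ V)) :
    (∀ a ∈ V, ∀ b ∈ V, a * b = b * a) ∧ ∀ a ∈ V, a * a = 1 := by
  obtain ⟨x, hx⟩ := h.nonempty
  refine VEA.elAb h hV hDV hcl hA hZ hx (Cfsg.pCore 3 (G ⧸ V) ⊓ center (G ⧸ V)) ?_ ?_ ?_
  · exact (Cfsg.Agent.Lib.Cores.pCore_isPGroup 3).to_le inf_le_left
  · rintro y ⟨_, hy⟩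
    exact (mem_center_iff.1 hy _).symm
  · intro a b A
    have A' := aff_map h hV A
    have hE := VEA.cls_quot h hDV
    obtain ⟨k, hk, y, hy, hy', e⟩ := mem_three (zeta_cube hE A') (hz _ _ _ A')
    rw [VEA.zeta_map, e]
    exact mul_mem (mem_sup_left hk) (mem_sup_right ⟨hy, hy'⟩)

theorem fix_of (h : Cls D) (hZ : center G = ⊥) (hV : IsPGroup 2 V) (hDV : ∀ d ∈ D, d ∉ V)
    (hab : ∀ a ∈ V, ∀ b ∈ V, a * b = b * a) (hsq : ∀ a ∈ V, a * a = 1)
    (hz : ∀ x a b : G ⧸ V, Aff (QuotientGroup.mk' V '' D) x a b →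
      Aff.zeta x a b ∈ Kd (QuotientGroup.mk' V '' D) x ⊔ center (G ⧸ V))
    (hex : ∃ x a b : G ⧸ V, Aff (QuotientGroup.mk' V '' D) x a b) :
    ∀ v ∈ V, (∀ g : G, QuotientGroup.mk' V g ∈ Cfsg.pCore 3 (G ⧸ V) → g * v = v * g) → v = 1 := by
  obtain ⟨x, a, b, A⟩ := hex
  have hE := VEA.cls_quot h hDV
  obtain ⟨k, hk, y, hy, hy', e⟩ := mem_three (zeta_cube hE A) (hz _ _ _ A)
  obtain ⟨M, i1, i2, ⟨I⟩, hM⟩ := Setup.exists_modEmb h (U := V) hV hn le_rfl
    (fun u hu v hv => hab v hv u hu) hsq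
  intro v hv hfix
  obtain ⟨m, rfl⟩ := I.surj v hv
  obtain ⟨g, rfl⟩ := QuotientGroup.mk'_surjective V y
  have h1 : QuotientGroup.mk' V g • m = m := by
    apply I.inj
    rw [I.smul, hfix g hy, mul_inv_cancel_right]
  have h2 := fix_of_central hE hM A hk hy' e h1
  rw [← mem_bot, ← hZ, mem_center_iff]
  intro g'
  have h3 : closure D ≤ centralizer {I.ι m} := by
    rw [closure_le]
    intro d hd
    rw [SetLike.mem_coe, mem_centralizer_singleton_iff]
    have h4 := I.smul d m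
    rw [h2 _ ⟨d, hd, rfl⟩] at h4
    exact (eq_mul_inv_iff_mul_eq.1 h4).symm
  rw [h.gen] at h3
  exact mem_centralizer_singleton_iff.1 (h3 (mem_top g'))

end final

end Cfsg.Agent.H853.CaseC
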