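import Cfsg.Agent.H853.Setup
import Cfsg.Agent.Lib.ComponentSolvable

/-!
# S5554: primitivity when `O₃` is central and the width is at least two
-/

set_option autoImplicit false

namespace Cfsg.Agent.H853.Prim

open Subgroup Cfsg.Agent.H854 Cfsg.Agent.H854.TM Cfsg.Agent.H854.ClassBasic Cfsg.Agent.H854.Ab
open Cfsg.Agent.H853

variable {H : Type*} [Group H] {E : Set H}

theorem quasi_not_comm {L : Subgroup H} (hL : Cfsg.IsQuasisimple L) :
    ¬ ∀ a ∈ L, ∀ b ∈ L, a * b = b * a := by
  intro hc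
  apply Cfsg.Agent.Lib.ComponentSolvable.quasisimple_center_ne_top hL
  rw [eq_top_iff]
  intro a _
  rw [mem_center_iff]
  intro b
  exact Subtype.ext (hc b b.2 a a.2)

/-- an involution not centralising the quasisimple normal subgroup `L` -/
theorem le_closure (h : Cls E) {L : Subgroup H} [hLn : L.Normal] (hL : Cfsg.IsQuasisimple L)
    {x : H} (hx : x ∈ E) : L ≤ closure {z | ∃ l ∈ L, z = l * x * l⁻¹} := by
  have hxx := h.sq x hx
  have hN : ((Ad L x).subgroupOf L).Normal := by
    refine ⟨?_⟩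
    intro n hn g
    rw [mem_subgroupOf] at hn ⊢
    exact VEA.V_norm g.2 hn
  rcases Cfsg.Agent.Lib.ComponentSolvable.quasisimple_normal_cases hL hN with h1 | h1
  · intro l hl
    have h2 : (⟨l, hl⟩ : L) ∈ (Ad L x).subgroupOf L := by rw [h1]; exact mem_top _
    rw [mem_subgroupOf] at h2
    have h3 : Ad L x ≤ closure {z | ∃ l ∈ L, z = l * x * l⁻¹} := by
      unfold Ad
      rw [closure_le]
      rintro _ ⟨v, hv, rfl⟩
      exact mul_mem (subset_closure ⟨v, hv, rfl⟩)
        (inv_mem (subset_closure ⟨1, one_mem _, by group⟩))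
    exact h3 h2
  · exfalso
    have hAdL : Ad L x ≤ L := Ad_le hLn x
    have hc1 : ∀ a ∈ Ad L x, ∀ l ∈ L, l * a = a * l := by
      intro a ha l hl
      have h2 : (⟨a, hAdL ha⟩ : L) ∈ center L := h1 (mem_subgroupOf.2 ha)
      exact congrArg Subtype.val (mem_center_iff.1 h2 ⟨l, hl⟩)
    have h3 : ⁅zpowers x, L⁆ ≤ Ad L x := by
      rw [commutator_le]
      rintro g hg l hl
      rw [mem_zpowers_iff] at hg
      obtain ⟨k, rfl⟩ := hg
      rcases Int.even_or_odd k with ⟨m, rfl⟩ | ⟨m, rfl⟩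
      · have : x ^ (m + m) = 1 := by
          rw [← two_mul, zpow_mul, zpow_two, hxx, one_zpow]
        rw [this, commutatorElement_one_left]
        exact one_mem _
      · have : x ^ (2 * m + 1) = x := by
          rw [zpow_add, zpow_mul, zpow_two, hxx, one_zpow, one_mul, zpow_one]
        rw [this, commutatorElement_def]
        exact mem_Ad' hl
    have h4 : ⁅⁅zpowers x, L⁆, L⁆ = ⊥ := by
      rw [eq_bot_iff, commutator_le]
      intro a ha l hl
      rw [mem_bot, commutatorElement_eq_one_iff_mul_comm]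
      exact (hc1 a (h3 ha) l hl).symm
    have h5 := Cfsg.Agent.Lib.ComponentSolvable.commutator_eq_bot_of_perfect hL.1 h4
    have h6 : ∀ l ∈ L, x * l = l * x := by
      intro l hl
      have h7 := commutator_mem_commutator (mem_zpowers x) hl
      rw [h5, mem_bot, commutatorElement_eq_one_iff_mul_comm] at h7
      exact h7
    have h8 : E ⊆ centralizer (L : Set H) := by
      intro y hy
      obtain ⟨g, rfl⟩ := h.trans x hx y hy
      rw [SetLike.mem_coe, mem_centralizer_iff]
      intro l hl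
      have h9 := h6 (g⁻¹ * l * g⁻¹⁻¹) (hLn.conj_mem l hl g⁻¹)
      calc l * (g * x * g⁻¹) = g * ((g⁻¹ * l * g⁻¹⁻¹) * x) * g⁻¹ := by group
        _ = g * (x * (g⁻¹ * l * g⁻¹⁻¹)) * g⁻¹ := by rw [h9]
        _ = g * x * g⁻¹ * l := by group
    apply quasi_not_comm hL
    intro a ha b _
    have h10 : closure E ≤ centralizer (L : Set H) := (closure_le _).2 h8
    rw [h.gen] at h10
    exact mem_centralizer_iff.1 (h10 (mem_top b)) a ha

theorem exists_noncomm (h : Cls E) {L : Subgroup H} [hLn : L.Normal] (hL : Cfsg.IsQuasisimple L)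
    {x : H} (hx : x ∈ E) : ∃ l ∈ L, x * (l * x * l⁻¹) ≠ (l * x * l⁻¹) * x := by
  by_contra hall
  push Not at hall
  have h1 : ∀ u ∈ {z | ∃ l ∈ L, z = l * x * l⁻¹}, ∀ v ∈ {z | ∃ l ∈ L, z = l * x * l⁻¹},
      u * v = v * u := by
    rintro _ ⟨l, hl, rfl⟩ _ ⟨m, hm, rfl⟩
    have h2 := hall (l⁻¹ * m) (mul_mem (inv_mem hl) hm)
    calc l * x * l⁻¹ * (m * x * m⁻¹) = l * (x * ((l⁻¹ * m) * x * (l⁻¹ * m)⁻¹)) * l⁻¹ := by group
      _ = l * (((l⁻¹ * m) * x * (l⁻¹ * m)⁻¹) * x) * l⁻¹ := by rw [h2]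
      _ = m * x * m⁻¹ * (l * x * l⁻¹) := by group
  apply quasi_not_comm hL
  have h3 := le_closure h hL hx
  have h4 : closure {z | ∃ l ∈ L, z = l * x * l⁻¹} ≤
      centralizer (closure {z | ∃ l ∈ L, z = l * x * l⁻¹}) := by
    rw [centralizer_closure, closure_le]
    intro u hu
    rw [SetLike.mem_coe, mem_centralizer_iff]
    intro v hv
    exact h1 v hv u hu
  intro a ha b hb
  exact mem_centralizer_iff.1 (h4 (h3 hb)) a (h3 ha)

theorem prim {M : Type*} [AddCommGroup M] [DistribMulAction H M] [Finite H] [Finite M]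
    (h : Cls E) (h2 : Cfsg.pCore 2 H = ⊥) (h3 : Cfsg.pCore 3 H ≤ center H)
    (hE2 : ∃ a ∈ E, ∃ b ∈ E, a ≠ b) (hM : IsTM E M)
    (hne : ∃ x ∈ E, ∃ m : M, m + x • m ≠ 0) : Cfsg.IsPrimitiveUnderConj E := by
  obtain ⟨L, hLn, hL, hF, hcase⟩ := Cfsg.Agent.S5352.result (Disc.ttc_of_cls h) hE2
    (by rw [h2]; exact bot_le) h3
  have h53 := (Cfsg.Agent.S5353.result (Disc.ttc_of_cls h) hE2
    (by rw [h2]; exact bot_le) h3 L hL hF).1
  by_cases hidx : L.index ≤ 2
  · exact h53 hidx
  exfalso
  have hw := hcase.resolve_left (fun e => hidx (by rw [e, index_top]; omega))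
  obtain ⟨x, hx⟩ := h.nonempty
  have hy : ∃ y ∈ E, x⁻¹ * y ∉ L := by
    by_contra hall
    push Not at hall
    apply hidx
    have hxx := h.sq x hx
    have hcov : ∀ g : H, g ∈ L ∨ x⁻¹ * g ∈ L := by
      intro g
      let T : Subgroup H :=
        { carrier := {g | g ∈ L ∨ x⁻¹ * g ∈ L}
          one_mem' := Or.inl (one_mem _)
          mul_mem' := by
            rintro a b (ha | ha) (hb | hb)
            · exact Or.inl (mul_mem ha hb)
            · right
              have e : x⁻¹ * (a * b) = (x⁻¹ * a * x⁻¹⁻¹) * (x⁻¹ * b) := by group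
              rw [e]
              exact mul_mem (hLn.conj_mem a ha _) hb
            · right
              have e : x⁻¹ * (a * b) = (x⁻¹ * a) * b := by group
              rw [e]
              exact mul_mem ha hb
            · left
              have e : a * b = (x * (x⁻¹ * a) * x⁻¹) * (x * x) * (x⁻¹ * b) := by group
              rw [e, hxx, mul_one]
              exact mul_mem (hLn.conj_mem _ ha x) hb
          inv_mem' := by
            rintro a (ha | ha)
            · exact Or.inl (inv_mem ha)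
            · right
              have e : x⁻¹ * a⁻¹ = (x * x)⁻¹ * (x * (x⁻¹ * a)⁻¹ * x⁻¹) := by group
              rw [e, hxx, inv_one, one_mul]
              exact hLn.conj_mem _ (inv_mem ha) x }
      have hT : closure E ≤ T := (closure_le _).2 (fun y hy => Or.inr (hall y hy))
      rw [h.gen] at hT
      exact hT (mem_top g)
    have hq : Nat.card (H ⧸ L) ≤ 2 := by
      have hsurj : Function.Surjective
          (fun b : Bool => if b then (1 : H ⧸ L) else QuotientGroup.mk' L x) := by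
        intro q
        obtain ⟨g, rfl⟩ := QuotientGroup.mk'_surjective L q
        rcases hcov g with hg | hg
        · exact ⟨true, by simpa using ((QuotientGroup.eq_one_iff g).2 hg).symm⟩
        · exact ⟨false, by simpa using QuotientGroup.eq.2 hg⟩
      have h5 := Nat.card_le_card_of_surjective _ hsurj
      simpa using h5
    exact hq
  obtain ⟨y, hy, hxy⟩ := hy
  obtain ⟨l, hl, hlx⟩ := exists_noncomm h hL hx
  exact Disc.disc h hM hne L hw hx hy hxy (le_closure h hL hx) hl hlx

theorem ttg_of_cls (h : Cls E) : Cfsg.IsThreeTranspositionGroup E :=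
  ⟨(Disc.ttc_of_cls h).1, h.conj, h.gen⟩

theorem conn [Finite H] (h : Cls E) (hp : Cfsg.IsPrimitiveUnderConj E)
    (hw : ∃ a ∈ E, ∃ b ∈ E, a ≠ b ∧ a * b = b * a) : (Cfsg.commutingGraph E).Connected :=
  (Cfsg.Agent.S5354.result (ttg_of_cls h) hp hw).2.1

theorem gen [Finite H] (h : Cls E) (hp : Cfsg.IsPrimitiveUnderConj E)
    (hw : ∃ a ∈ E, ∃ b ∈ E, a ≠ b ∧ a * b = b * a) {d e : H} (hd : d ∈ E) (he : e ∈ E)
    (hde : d * e ≠ e * d) : Kd E d ⊔ Kd E e = ⊤ := by
  have h1 := ((Cfsg.Agent.S5354.result (ttg_of_cls h) hp hw).2.2 d hd).2 (Kd E d ⊔ Kd E e)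
  have h2 : Cfsg.IsDSubgroup E (Kd E d ⊔ Kd E e) := by
    unfold Cfsg.IsDSubgroup
    apply le_antisymm
    · rw [closure_le]
      rintro z ⟨_, hz⟩
      exact hz
    · refine sup_le ?_ ?_
      · conv_lhs => unfold Kd
        rw [closure_le]
        intro z hz
        exact subset_closure ⟨hz.1, mem_sup_left (subset_closure hz)⟩
      · conv_lhs => unfold Kd
        rw [closure_le]
        intro z hz
        exact subset_closure ⟨hz.1, mem_sup_right (subset_closure hz)⟩
  rcases h1 h2 le_sup_left with h3 | h3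
  · exfalso
    have h4 : e ∈ Kd E d := by
      have h5 : e ∈ Kd E d ⊔ Kd E e := mem_sup_right (subset_closure ⟨he, rfl⟩)
      rw [h3] at h5
      exact h5
    exact hde (Kd_comm h4).symm
  · exact h3

end Cfsg.Agent.H853.Prim
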