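import Cfsg.Agent.H853.TDefs

/-!
# Centralisers of 3-transpositions

The centraliser of `x ∈ D` is generated by the members of `D` commuting with `x` and the central
elements of order three of the affine planes through `x`.
-/

set_option autoImplicit false

namespace Cfsg.Agent.H853.SC

open Subgroup Cfsg.Agent.H854 Cfsg.Agent.H854.TM Cfsg.Agent.H854.ClassBasic Cfsg.Agent.H854.Ab

variable {H : Type*} [Group H] {D : Set H}

/-- the subgroup of the statement -/
def P (D : Set H) (x : H) : Subgroup H :=
  closure ({e | e ∈ D ∧ x * e = e * x} ∪ {z | ∃ a b, Aff D x a b ∧ z = Aff.zeta x a b})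

theorem mem_P_of_comm {x e : H} (he : e ∈ D) (hc : x * e = e * x) : e ∈ P D x :=
  subset_closure (Or.inl ⟨he, hc⟩)

theorem zeta_mem_P {x a b : H} (A : Aff D x a b) : Aff.zeta x a b ∈ P D x :=
  subset_closure (Or.inr ⟨a, b, A, rfl⟩)

theorem conj_ne {g a b : H} (h : a * b ≠ b * a) :
    (g * a * g⁻¹) * (g * b * g⁻¹) ≠ (g * b * g⁻¹) * (g * a * g⁻¹) := by
  intro e
  apply h
  have h1 : g * (a * b) * g⁻¹ = g * (b * a) * g⁻¹ := by
    calc g * (a * b) * g⁻¹ = (g * a * g⁻¹) * (g * b * g⁻¹) := by group
      _ = (g * b * g⁻¹) * (g * a * g⁻¹) := e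
      _ = g * (b * a) * g⁻¹ := by group
  exact mul_left_cancel (mul_right_cancel h1)

theorem conj_eq {g a b : H} (h : a * b = b * a) :
    (g * a * g⁻¹) * (g * b * g⁻¹) = (g * b * g⁻¹) * (g * a * g⁻¹) := by
  calc (g * a * g⁻¹) * (g * b * g⁻¹) = g * (a * b) * g⁻¹ := by group
    _ = g * (b * a) * g⁻¹ := by rw [h]
    _ = _ := by group

theorem aff_conj (h : Cls D) (g : H) {x a b : H} (A : Aff D x a b) :
    Aff D (g * x * g⁻¹) (g * a * g⁻¹) (g * b * g⁻¹) where
  hf := h.conj g x A.hf
  hg := h.conj g a A.hg
  hh := h.conj g b A.hh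
  fg := conj_ne A.fg
  fh := conj_ne A.fh
  gh := conj_ne A.gh
  fgfh := by
    have e : g * x * g⁻¹ * (g * a * g⁻¹) * (g * x * g⁻¹) = g * (x * a * x) * g⁻¹ := by group
    rw [e]
    exact conj_ne A.fgfh

theorem zeta_conj (g x a b : H) : Aff.zeta (g * x * g⁻¹) (g * a * g⁻¹) (g * b * g⁻¹) =
    g * Aff.zeta x a b * g⁻¹ := by
  unfold Aff.zeta
  group

theorem P_conj (h : Cls D) (g : H) {x p : H} (hp : p ∈ P D x) :
    g * p * g⁻¹ ∈ P D (g * x * g⁻¹) := by
  have h1 : P D x ≤ (P D (g * x * g⁻¹)).comap (MulAut.conj g).toMonoidHom := by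
    conv_lhs => unfold P
    rw [closure_le]
    rintro z (⟨he, hc⟩ | ⟨a, b, A, rfl⟩)
    · exact mem_P_of_comm (h.conj g z he) (conj_eq hc)
    · change g * Aff.zeta x a b * g⁻¹ ∈ P D (g * x * g⁻¹)
      rw [← zeta_conj]
      exact zeta_mem_P (aff_conj h g A)
  exact h1 hp

/-- the closed path `x → a → b → x` -/
def hol (x a b : H) : H := (b * x) * (a * b) * (x * a)

section

variable (h : Cls D)
include h

theorem inv_mul {a b : H} (ha : a ∈ D) (hb : b ∈ D) : (a * b)⁻¹ = b * a := by
  rw [mul_inv_rev, inv_of_sq (h.sq a ha), inv_of_sq (h.sq b hb)]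

theorem conj_mem {a b : H} (ha : a ∈ D) (hb : b ∈ D) : a * b * a ∈ D := by
  have := h.conj a b hb
  rwa [inv_of_sq (h.sq a ha)] at this

theorem braid' {a b : H} (ha : a ∈ D) (hb : b ∈ D) (hn : a * b ≠ b * a) :
    a * b * a = b * a * b := (h.braid a ha b hb).resolve_left hn

/-- `x y` moves `x` to `y` -/
theorem move {x y : H} (hx : x ∈ D) (hy : y ∈ D) (hn : x * y ≠ y * x) :
    (x * y) * x * (x * y)⁻¹ = y := by
  rw [inv_mul h hx hy]
  calc (x * y) * x * (y * x) = (x * y * x) * (y * x) := by simp only [mul_assoc]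
    _ = (y * x * y) * (y * x) := by rw [braid' h hx hy hn]
    _ = y * (x * (y * y) * x) := by simp only [mul_assoc]
    _ = y := by rw [h.sq y hy, mul_one, h.sq x hx, mul_one]

theorem hol_mem {x a b : H} (hx : x ∈ D) (ha : a ∈ D) (hb : b ∈ D) (xa : x * a ≠ a * x)
    (xb : x * b ≠ b * x) (ab : a * b ≠ b * a) : hol x a b ∈ P D x := by
  have hxx := h.sq x hx
  have haa := h.sq a ha
  have hbb := h.sq b hb
  by_cases hc : (x * a * x) * b = b * (x * a * x)
  · -- `S₄` or a line
    have hz : x * a * x = a * x * a := braid' h hx ha xa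
    have e : hol x a b = (b * a * b) * x := by
      unfold hol
      calc b * x * (a * b) * (x * a) = b * (x * a) * b * (x * a) := by simp only [mul_assoc]
        _ = b * (a * a * x * a) * b * (x * a) := by rw [haa, one_mul]
        _ = b * a * ((a * x * a) * b) * (x * a) := by simp only [mul_assoc]
        _ = b * a * (b * (x * a * x)) * (x * a) := by rw [← hz, hc]
        _ = b * a * b * (x * a * (x * x) * a) := by simp only [mul_assoc]
        _ = b * a * b * x := by rw [hxx, mul_one, mul_assoc x a a, haa, mul_one]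
    rw [e]
    apply mul_mem
    · apply mem_P_of_comm (conj_mem h hb ha)
      have e1 : b * a * b = a * b * a := braid' h hb ha ab.symm
      have e2 : x = a * (x * a * x) * a := by
        rw [hz]
        calc x = (a * a) * x * (a * a) := by rw [haa, one_mul, mul_one]
          _ = a * (a * x * a) * a := by simp only [mul_assoc]
      rw [e1]
      calc x * (a * b * a) = a * (x * a * x) * a * (a * b * a) := by rw [← e2]
        _ = a * (x * a * x) * (a * a) * b * a := by simp only [mul_assoc]
        _ = a * ((x * a * x) * b) * a := by rw [haa, mul_one]; simp only [mul_assoc]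
        _ = a * (b * (x * a * x)) * a := by rw [hc]
        _ = a * b * (a * a) * (x * a * x) * a := by rw [haa, mul_one]; simp only [mul_assoc]
        _ = a * b * a * (a * (x * a * x) * a) := by simp only [mul_assoc]
        _ = a * b * a * x := by rw [← e2]
    · exact mem_P_of_comm hx rfl
  · have A : Aff D x a b := ⟨hx, ha, hb, xa, xb, ab, hc⟩
    have hs := h.cube hx ha xa
    have ht := h.cube hx hb xb
    have h1 : ((x * a) * (x * b)) * ((x * a) * (x * b)) * ((x * a) * (x * b)) = 1 := by
      have := h.cube (conj_mem h hx ha) hb hc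
      have e : (x * a) * (x * b) = (x * a * x) * b := by simp only [mul_assoc]
      rw [e]; exact this
    have h2 : ((x * a)⁻¹ * (x * b)) * ((x * a)⁻¹ * (x * b)) * ((x * a)⁻¹ * (x * b)) = 1 := by
      have e : (x * a)⁻¹ * (x * b) = a * b := by
        rw [inv_mul h hx ha]
        calc a * x * (x * b) = a * (x * x) * b := by simp only [mul_assoc]
          _ = a * b := by rw [hxx, mul_one]
      rw [e]; exact h.cube ha hb ab
    obtain ⟨c1, c2, -⟩ := TM.zeta_spec hs ht h1 h2
    have e : hol x a b = (Aff.zeta x a b)⁻¹ := by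
      have c3 : Commute ((x * a) * (x * b)) (Aff.zeta x a b) := c1.mul_left c2
      have e1 : hol x a b = ((x * a) * (x * b))⁻¹ * ((x * b) * (x * a)) := by
        unfold hol
        rw [mul_inv_rev, inv_mul h hx ha, inv_mul h hx hb]
        calc b * x * (a * b) * (x * a) = b * x * a * (x * x) * b * (x * a) := by
              rw [hxx, mul_one]; simp only [mul_assoc]
          _ = _ := by simp only [mul_assoc]
      have e2 : (x * b) * (x * a) = (Aff.zeta x a b)⁻¹ * ((x * a) * (x * b)) := by
        unfold Aff.zeta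
        group
      rw [e1, e2, ← c3.inv_right.eq, inv_mul_cancel_left]
    rw [e]
    exact inv_mem (zeta_mem_P A)

theorem hol_mem' {x a b y : H} (hx : x ∈ D) (ha : a ∈ D) (hb : b ∈ D) (hy : y ∈ D)
    (xa : x * a ≠ a * x) (xb : x * b ≠ b * x) (ab : a * b ≠ b * a) (yx : y * x ≠ x * y) :
    (y * x)⁻¹ * hol x a b * (y * x) ∈ P D y := by
  have h1 := P_conj h (y * x)⁻¹ (hol_mem h hx ha hb xa xb ab)
  have e : (y * x)⁻¹ * x * (y * x)⁻¹⁻¹ = y := by
    rw [inv_inv]
    nth_rewrite 2 [← move h hy hx yx]
    group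
  rw [e, inv_inv] at h1
  exact h1

/-- independence of the common neighbour, adjacent case -/
theorem ind_adj {x w z z' : H} (hx : x ∈ D) (hw : w ∈ D) (hz : z ∈ D) (hz' : z' ∈ D)
    (xz : x * z ≠ z * x) (wz : w * z ≠ z * w) (xz' : x * z' ≠ z' * x)
    (wz' : w * z' ≠ z' * w) (zz' : z * z' ≠ z' * z) :
    (z' * x) * (w * z') * (z * w) * (x * z) ∈ P D x := by
  have a1 := hol_mem h hx hz hz' xz xz' zz'
  have a2 := hol_mem' h hz hw hz' hx wz.symm zz' wz' xz
  have e : (z' * x) * (w * z') * (z * w) * (x * z) =
      hol x z z' * ((x * z)⁻¹ * hol z w z' * (x * z)) := by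
    unfold hol
    have e1 : (z * z') * (x * z) * (x * z)⁻¹ * (z' * z) = 1 := by
      rw [mul_inv_cancel_right, ← inv_mul h hz hz', mul_inv_cancel]
    calc (z' * x) * (w * z') * (z * w) * (x * z)
        = (z' * x) * 1 * (w * z') * (z * w) * (x * z) := by rw [mul_one]
      _ = (z' * x) * ((z * z') * (x * z) * (x * z)⁻¹ * (z' * z)) * (w * z') * (z * w) * (x * z) := by
          rw [e1]
      _ = _ := by simp only [mul_assoc]
  rw [e]
  exact mul_mem a1 a2

theorem ind {x w z z' : H} (hx : x ∈ D) (hw : w ∈ D) (hz : z ∈ D) (hz' : z' ∈ D)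
    (xw : x * w = w * x) (xz : x * z ≠ z * x) (wz : w * z ≠ z * w) (xz' : x * z' ≠ z' * x)
    (wz' : w * z' ≠ z' * w) :
    (z' * x) * (w * z') * (z * w) * (x * z) ∈ P D x := by
  by_cases zz' : z * z' = z' * z
  · have hxx := h.sq x hx
    have hzz := h.sq z hz
    have hv : x * z * x ∈ D := conj_mem h hx hz
    have b1 : x * (x * z * x) ≠ (x * z * x) * x := by
      intro e
      apply xz
      have e1 : x * (x * z * x) = z * x := by
        calc x * (x * z * x) = (x * x) * z * x := by simp only [mul_assoc]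
          _ = z * x := by rw [hxx, one_mul]
      have e2 : (x * z * x) * x = x * z := by rw [mul_assoc, hxx, mul_one]
      rw [← e2, ← e, e1]
    have b2 : w * (x * z * x) ≠ (x * z * x) * w := by
      intro e
      apply wz
      calc w * z = w * ((x * x) * z * (x * x)) := by rw [hxx, one_mul, mul_one]
        _ = (w * x) * (x * z * x) * x := by simp only [mul_assoc]
        _ = x * (w * (x * z * x)) * x := by rw [← xw]; simp only [mul_assoc]
        _ = x * ((x * z * x) * w) * x := by rw [e]
        _ = (x * x) * z * (x * w) * x := by simp only [mul_assoc]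
        _ = (x * x) * z * w * (x * x) := by rw [xw]; simp only [mul_assoc]
        _ = z * w := by rw [hxx, one_mul, mul_one]
    have b3 : z * (x * z * x) ≠ (x * z * x) * z := by
      have hb := braid' h hx hz xz
      rw [hb]
      intro e
      apply xz
      have e1 : z * (z * x * z) = x * z := by
        calc z * (z * x * z) = (z * z) * x * z := by simp only [mul_assoc]
          _ = x * z := by rw [hzz, one_mul]
      have e2 : (z * x * z) * z = z * x := by rw [mul_assoc, hzz, mul_one]
      rw [← e1, e, e2]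
    have b4 : (x * z * x) * z' ≠ z' * (x * z * x) := by
      have hb := braid' h hx hz xz
      rw [hb]
      intro e
      apply xz'
      calc x * z' = (z * z) * x * (z * z) * z' := by rw [hzz, one_mul, mul_one]
        _ = z * ((z * x * z) * (z * z')) := by simp only [mul_assoc]
        _ = z * ((z * x * z) * z') * z := by rw [zz']; simp only [mul_assoc]
        _ = z * (z' * (z * x * z)) * z := by rw [e]
        _ = (z * z') * (z * x * z) * z := by simp only [mul_assoc]
        _ = z' * (z * z) * x * (z * z) := by rw [zz']; simp only [mul_assoc]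
        _ = z' * x := by rw [hzz, mul_one, mul_one]
    have c1 := ind_adj h hx hw hz hv xz wz b1 b2 b3
    have c2 := ind_adj h hx hw hv hz' b1 b2 xz' wz' b4
    have e : (z' * x) * (w * z') * (z * w) * (x * z) =
        ((z' * x) * (w * z') * ((x * z * x) * w) * (x * (x * z * x))) *
        (((x * z * x) * x) * (w * (x * z * x)) * (z * w) * (x * z)) := by
      have e1 : ((x * z * x) * w) * (x * (x * z * x)) * (((x * z * x) * x) * (w * (x * z * x))) =
          1 := by
        rw [← inv_mul h hx hv, mul_assoc, mul_inv_cancel_left, ← inv_mul h hw hv, inv_mul h hw hv,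
          ← inv_mul h hw hv, ← inv_mul h hv hw, inv_inv, inv_mul h hv hw]
        rw [← inv_mul h hv hw, mul_inv_cancel]
      calc (z' * x) * (w * z') * (z * w) * (x * z)
          = (z' * x) * (w * z') * 1 * (z * w) * (x * z) := by rw [mul_one]
        _ = (z' * x) * (w * z') * (((x * z * x) * w) * (x * (x * z * x)) *
            (((x * z * x) * x) * (w * (x * z * x)))) * (z * w) * (x * z) := by rw [e1]
        _ = _ := by simp only [mul_assoc]
    rw [e]
    exact mul_mem c2 c1
  · exact ind_adj h hx hw hz hz' xz wz xz' wz' zz'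

end

/-- standard elements moving `x` to `y` -/
def St (D : Set H) (x y t : H) : Prop :=
  (x * y ≠ y * x ∧ t = x * y) ∨
    (x * y = y * x ∧ ∃ z ∈ D, x * z ≠ z * x ∧ y * z ≠ z * y ∧ t = (z * y) * (x * z))

section

variable (h : Cls D)
include h

theorem St.move {x y t : H} (hx : x ∈ D) (hy : y ∈ D) (ht : St D x y t) : t * x * t⁻¹ = y := by
  rcases ht with ⟨hn, rfl⟩ | ⟨hc, z, hz, xz, yz, rfl⟩
  · exact SC.move h hx hy hn
  · have e1 := SC.move h hx hz xz
    have e2 := SC.move h hz hy yz.symm
    calc (z * y) * (x * z) * x * ((z * y) * (x * z))⁻¹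
        = (z * y) * ((x * z) * x * (x * z)⁻¹) * (z * y)⁻¹ := by group
      _ = y := by rw [e1, e2]

/-- one step -/
theorem step {x y y' t' : H} (hx : x ∈ D) (hy : y ∈ D) (hy' : y' ∈ D) (yy' : y * y' ≠ y' * y)
    (ht' : St D x y' t') : ∃ t, St D x y t ∧ t'⁻¹ * (y * y') * t ∈ P D x := by
  rcases ht' with ⟨hn', rfl⟩ | ⟨hc', z, hz, xz, yz', rfl⟩
  · by_cases hc : x * y = y * x
    · refine ⟨(y' * y) * (x * y'), Or.inr ⟨hc, y', hy', hn', yy', rfl⟩, ?_⟩
      have e : (x * y')⁻¹ * (y * y') * ((y' * y) * (x * y')) = 1 := by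
        have e1 : (y * y') * (y' * y) = 1 := by
          rw [← inv_mul h hy hy', mul_inv_cancel]
        calc (x * y')⁻¹ * (y * y') * ((y' * y) * (x * y'))
            = (x * y')⁻¹ * ((y * y') * (y' * y)) * (x * y') := by simp only [mul_assoc]
          _ = 1 := by rw [e1, mul_one, inv_mul_cancel]
      rw [e]; exact one_mem _
    · refine ⟨x * y, Or.inl ⟨hc, rfl⟩, ?_⟩
      rw [inv_mul h hx hy']
      exact hol_mem h hx hy hy' hc hn' yy'
  · by_cases hc : x * y = y * x
    · by_cases hzy : z * y = y * z
      · -- use the third point of `z, y'`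
        have hzz := h.sq z hz
        have hyy := h.sq y' hy'
        have hv : y' * z * y' ∈ D := conj_mem h hy' hz
        have xv : x * (y' * z * y') ≠ (y' * z * y') * x := by
          intro e
          apply xz
          calc x * z = x * ((y' * y') * z * (y' * y')) := by rw [hyy, one_mul, mul_one]
            _ = (x * y') * (y' * z * y') * y' := by simp only [mul_assoc]
            _ = y' * (x * (y' * z * y')) * y' := by rw [hc']; simp only [mul_assoc]
            _ = y' * ((y' * z * y') * x) * y' := by rw [e]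
            _ = (y' * y') * z * y' * (x * y') := by simp only [mul_assoc]
            _ = (y' * y') * z * (y' * y') * x := by rw [hc']; simp only [mul_assoc]
            _ = z * x := by rw [hyy, one_mul, mul_one]
        have yv' : y' * (y' * z * y') ≠ (y' * z * y') * y' := by
          intro e
          apply yz'
          have e1 : y' * (y' * z * y') = z * y' := by
            calc y' * (y' * z * y') = (y' * y') * z * y' := by simp only [mul_assoc]
              _ = z * y' := by rw [hyy, one_mul]
          have e2 : (y' * z * y') * y' = y' * z := by rw [mul_assoc, hyy, mul_one]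
          rw [← e2, ← e, e1]
        have hb := braid' h hy' hz yz'
        have vy : (y' * z * y') * y ≠ y * (y' * z * y') := by
          rw [hb]
          intro e
          apply yy'
          calc y * y' = (z * z) * y * y' * (z * z) := by rw [hzz, one_mul, mul_one]
            _ = z * (z * y) * y' * (z * z) := by simp only [mul_assoc]
            _ = z * (y * (z * y' * z)) * z := by rw [hzy]; simp only [mul_assoc]
            _ = z * ((z * y' * z) * y) * z := by rw [e]
            _ = (z * z) * y' * z * (y * z) := by simp only [mul_assoc]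
            _ = (z * z) * y' * (z * z) * y := by rw [← hzy]; simp only [mul_assoc]
            _ = y' * y := by rw [hzz, one_mul, mul_one]
        refine ⟨((y' * z * y') * y) * (x * (y' * z * y')),
          Or.inr ⟨hc, _, hv, xv, vy.symm, rfl⟩, ?_⟩
        generalize y' * z * y' = v at *
        have c1 := ind h hx hy' hv hz hc' xv yv' xz yz'
        have c2 := hol_mem' h hv hy hy' hx vy yv'.symm yy' xv
        have e : ((z * y') * (x * z))⁻¹ * (y * y') * ((v * y) * (x * v)) =
            ((z * x) * (y' * z) * (v * y') * (x * v)) *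
              ((x * v)⁻¹ * hol v y y' * (x * v)) := by
          unfold hol
          have e1 : (v * y') * (x * v) * (x * v)⁻¹ * (y' * v) = 1 := by
            rw [mul_inv_cancel_right, ← inv_mul h hv hy', mul_inv_cancel]
          rw [mul_inv_rev, inv_mul h hx hz, inv_mul h hz hy']
          calc (z * x) * (y' * z) * (y * y') * ((v * y) * (x * v))
              = (z * x) * (y' * z) * 1 * (y * y') * ((v * y) * (x * v)) := by rw [mul_one]
            _ = (z * x) * (y' * z) * ((v * y') * (x * v) * (x * v)⁻¹ * (y' * v)) *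
                (y * y') * ((v * y) * (x * v)) := by rw [e1]
            _ = _ := by simp only [mul_assoc]
        rw [e]
        exact mul_mem c1 c2
      · refine ⟨(z * y) * (x * z), Or.inr ⟨hc, z, hz, xz, fun e => hzy e.symm, rfl⟩, ?_⟩
        have c2 := hol_mem' h hz hy hy' hx hzy yz'.symm yy' xz
        have e : ((z * y') * (x * z))⁻¹ * (y * y') * ((z * y) * (x * z)) =
            (x * z)⁻¹ * hol z y y' * (x * z) := by
          unfold hol
          rw [mul_inv_rev, inv_mul h hz hy']
          simp only [mul_assoc]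
        rw [e]
        exact c2
    · refine ⟨x * y, Or.inl ⟨hc, rfl⟩, ?_⟩
      have c1 := ind h hx hy' hy hz hc' hc yy'.symm xz yz'
      rw [mul_inv_rev, inv_mul h hx hz, inv_mul h hz hy']
      have e : (z * x) * (y' * z) * (y * y') * (x * y) =
          (z * x) * (y' * z) * (y * y') * (x * y) := rfl
      exact c1

theorem claim_step {x : H} (hx : x ∈ D) {d : H} (hd : d ∈ D) {g' : H}
    (ih : ∀ t, St D x (g' * x * g'⁻¹) t → t⁻¹ * g' ∈ P D x) :
    ∀ t, St D x (d * g' * x * (d * g')⁻¹) t → t⁻¹ * (d * g') ∈ P D x := by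
  intro t' ht'
  have hyD : g' * x * g'⁻¹ ∈ D := h.conj g' x hx
  have e1 : d * g' * x * (d * g')⁻¹ = d * (g' * x * g'⁻¹) * d⁻¹ := by group
  rw [e1] at ht'
  generalize hydef : g' * x * g'⁻¹ = y at *
  have hdd := h.sq d hd
  by_cases hc : d * y = y * d
  · have e2 : d * y * d⁻¹ = y := by rw [hc, mul_inv_cancel_right]
    rw [e2] at ht'
    have h1 := ih t' ht'
    have h2 := St.move h hx hyD ht'
    have e3 : t'⁻¹ * (d * g') = (t'⁻¹ * d * t'⁻¹⁻¹) * (t'⁻¹ * g') := by group
    rw [e3]
    apply mul_mem _ h1
    apply mem_P_of_comm (h.conj t'⁻¹ d hd)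
    have e4 : t'⁻¹ * y * t'⁻¹⁻¹ = x := by rw [← h2]; group
    have e5 := conj_eq (g := t'⁻¹) hc.symm
    rwa [e4] at e5
  · have hdi := inv_of_sq hdd
    rw [hdi] at ht'
    have hy' : d * y * d ∈ D := conj_mem h hd hyD
    have yy' : y * (d * y * d) ≠ (d * y * d) * y := by
      rw [braid' h hd hyD hc]
      have hyy := h.sq y hyD
      intro e
      apply hc
      have e1 : y * (y * d * y) = d * y := by
        calc y * (y * d * y) = (y * y) * d * y := by simp only [mul_assoc]
          _ = d * y := by rw [hyy, one_mul]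
      have e2 : (y * d * y) * y = y * d := by rw [mul_assoc, hyy, mul_one]
      rw [← e1, e, e2]
    obtain ⟨t, ht, hmem⟩ := step h hx hyD hy' yy' ht'
    have h1 := ih t ht
    have h2 := St.move h hx hyD ht
    have hyy := h.sq y hyD
    have e5 : (y * (d * y * d)) * y = d := by
      rw [braid' h hd hyD hc]
      calc y * (y * d * y) * y = (y * y) * d * (y * y) := by simp only [mul_assoc]
        _ = d := by rw [hyy, one_mul, mul_one]
    have e3 : t'⁻¹ * (d * g') = (t'⁻¹ * (y * (d * y * d)) * t) * (t⁻¹ * y * t) *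
        (t⁻¹ * g') := by
      have : (t'⁻¹ * (y * (d * y * d)) * t) * (t⁻¹ * y * t) * (t⁻¹ * g') =
          t'⁻¹ * ((y * (d * y * d)) * y) * g' := by group
      rw [this, e5, mul_assoc]
    have e4 : t⁻¹ * y * t = x := by rw [← h2]; group
    rw [e3, e4]
    exact mul_mem (mul_mem hmem (mem_P_of_comm hx rfl)) h1

theorem claim {x : H} (hx : x ∈ D) (g : H) :
    ∀ t, St D x (g * x * g⁻¹) t → t⁻¹ * g ∈ P D x := by
  have hg : g ∈ closure D := by rw [h.gen]; exact mem_top g
  induction hg using closure_induction_left with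
  | one =>
    intro t ht
    rw [one_mul, inv_one, mul_one] at ht
    rcases ht with ⟨hn, rfl⟩ | ⟨-, z, hz, xz, -, rfl⟩
    · exact absurd rfl hn
    · have e1 : (z * x) * (x * z) = 1 := by rw [← inv_mul h hz hx, mul_inv_cancel]
      rw [e1, inv_one, mul_one]
      exact one_mem _
  | mul_left d hd g' _ ih => exact claim_step h hx hd ih
  | inv_mul_cancel d hd g' _ ih =>
    rw [inv_of_sq (h.sq d hd)]
    exact claim_step h hx hd ih

/-- **Centralisers of 3-transpositions.** -/
theorem centralizer_eq {x : H} (hx : x ∈ D) (g : H) (hg : g * x = x * g) :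
    g ∈ closure ({e | e ∈ D ∧ x * e = e * x} ∪ {z | ∃ a b, Aff D x a b ∧ z = Aff.zeta x a b}) := by
  change g ∈ P D x
  by_cases hex : ∃ z ∈ D, x * z ≠ z * x
  · obtain ⟨z, hz, xz⟩ := hex
    have e : g * x * g⁻¹ = x := by rw [hg, mul_inv_cancel_right]
    have h1 := claim h hx g ((z * x) * (x * z)) (by rw [e]; exact Or.inr ⟨rfl, z, hz, xz, xz, rfl⟩)
    have e1 : (z * x) * (x * z) = 1 := by rw [← inv_mul h hz hx, mul_inv_cancel]
    rwa [e1, inv_one, one_mul] at h1
  · push Not at hex
    have h1 : (⊤ : Subgroup H) ≤ P D x := by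
      rw [← h.gen, closure_le]
      intro z hz
      exact mem_P_of_comm hz (hex z hz)
    exact h1 (mem_top g)

end

end Cfsg.Agent.H853.SC
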