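import Cfsg.Agent.H853.SC
import Mathlib.GroupTheory.Transfer

/-!
# The 2-radical is elementary abelian
-/

set_option autoImplicit false
set_option linter.unusedSectionVars false

namespace Cfsg.Agent.H853.VEA

open Subgroup Cfsg.Agent.H854 Cfsg.Agent.H854.TM Cfsg.Agent.H854.ClassBasic Cfsg.Agent.H854.Ab

/-- a central 2-subgroup with 3-group quotient of a group generated by elements of order three is
trivial -/
theorem central_trivial {Γ : Type*} [Group Γ] [Finite Γ] (Z : Subgroup Γ) (hZ : Z ≤ center Γ)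
    (hZ2 : IsPGroup 2 Z) (hq : ∀ γ : Γ, ∃ k : ℕ, γ ^ (3 ^ k) ∈ Z) (S : Set Γ)
    (hS : closure S = ⊤) (h3 : ∀ s ∈ S, s ^ 3 = 1) {z : Γ} (hz : z ∈ Z) : z = 1 := by
  have : Fact (Nat.Prime 3) := ⟨Nat.prime_three⟩
  have hp : IsPGroup 3 (Γ ⧸ center Γ) := by
    intro g
    obtain ⟨g, rfl⟩ := QuotientGroup.mk'_surjective _ g
    obtain ⟨k, hk⟩ := hq g
    refine ⟨k, ?_⟩
    rw [← map_pow, QuotientGroup.mk'_apply, QuotientGroup.eq_one_iff]
    exact hZ hk
  obtain ⟨k, hk⟩ := (IsPGroup.iff_card).1 hp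
  have hidx : (center Γ).index = 3 ^ k := hk
  -- everything has order dividing 3^(max k 1) on generators
  have key : ∀ g : Γ, g ^ (3 ^ (k + 1)) = 1 := by
    intro g
    have h1 : ∀ g : Γ, (MonoidHom.transferCenterPow Γ g) ^ 3 = 1 := by
      intro g
      have : g ∈ closure S := by rw [hS]; exact mem_top g
      induction this using closure_induction with
      | mem s hs => rw [← map_pow, h3 s hs, map_one]
      | one => rw [map_one, one_pow]
      | mul a b _ _ iha ihb =>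
        have hc : Commute (MonoidHom.transferCenterPow Γ a) (MonoidHom.transferCenterPow Γ b) :=
          Subtype.ext ((mem_center_iff.1 (MonoidHom.transferCenterPow Γ b).2) _)
        rw [map_mul, hc.mul_pow, iha, ihb, one_mul]
      | inv a _ iha => rw [map_inv, inv_pow, iha, inv_one]
    have h2 := congrArg (fun y : center Γ => (y : Γ)) (h1 g)
    simp only [SubmonoidClass.coe_pow, MonoidHom.transferCenterPow_apply, OneMemClass.coe_one,
      hidx] at h2
    rw [pow_succ, pow_mul]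
    exact h2
  obtain ⟨j, hj⟩ := hZ2 ⟨z, hz⟩
  have hj' : z ^ 2 ^ j = 1 := by
    have := congrArg (fun y : Z => (y : Γ)) hj
    simpa using this
  have h1 : orderOf z ∣ 2 ^ j := orderOf_dvd_of_pow_eq_one hj'
  have h2 : orderOf z ∣ 3 ^ (k + 1) := orderOf_dvd_of_pow_eq_one (key z)
  have h4 : Nat.Coprime (2 ^ j) (3 ^ (k + 1)) := Nat.Coprime.pow _ _ (by norm_num)
  exact orderOf_eq_one_iff.1 (Nat.eq_one_of_dvd_coprimes h4 h1 h2)

theorem mem_sup_of_norm {G : Type*} [Group G] {K Y : Subgroup G}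
    (hn : ∀ y ∈ Y, ∀ k ∈ K, y * k * y⁻¹ ∈ K) {z : G} (hz : z ∈ K ⊔ Y) :
    ∃ k ∈ K, ∃ y ∈ Y, z = k * y := by
  let L : Subgroup G :=
    { carrier := {z | ∃ k ∈ K, ∃ y ∈ Y, z = k * y}
      one_mem' := ⟨1, one_mem _, 1, one_mem _, (mul_one _).symm⟩
      mul_mem' := by
        rintro _ _ ⟨k, hk, y, hy, rfl⟩ ⟨k', hk', y', hy', rfl⟩
        refine ⟨k * (y * k' * y⁻¹), mul_mem hk (hn y hy k' hk'), y * y', mul_mem hy hy', ?_⟩
        group
      inv_mem' := by
        rintro _ ⟨k, hk, y, hy, rfl⟩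
        refine ⟨y⁻¹ * k⁻¹ * y⁻¹⁻¹, hn _ (inv_mem hy) _ (inv_mem hk), y⁻¹, inv_mem hy, ?_⟩
        group }
  have h1 : K ⊔ Y ≤ L := by
    apply sup_le
    · intro k hk
      exact ⟨k, hk, 1, one_mem _, (mul_one _).symm⟩
    · intro y hy
      exact ⟨1, one_mem _, y, hy, (one_mul _).symm⟩
  exact h1 hz

theorem pow_of_norm {G : Type*} [Group G] {K : Subgroup G} {k y : G} (hk : k ∈ K)
    (hn : ∀ k ∈ K, y * k * y⁻¹ ∈ K) (n : ℕ) : ∃ k' ∈ K, (k * y) ^ n = k' * y ^ n := by
  have hn' : ∀ n : ℕ, ∀ k ∈ K, y ^ n * k * (y ^ n)⁻¹ ∈ K := by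
    intro n
    induction n with
    | zero => intro k hk; simpa using hk
    | succ n ih =>
      intro k hk
      have := ih _ (hn k hk)
      have e : y ^ (n + 1) * k * (y ^ (n + 1))⁻¹ = y ^ n * (y * k * y⁻¹) * (y ^ n)⁻¹ := by
        rw [pow_succ]; group
      rw [e]; exact this
  induction n with
  | zero => exact ⟨1, one_mem _, by simp⟩
  | succ n ih =>
    obtain ⟨k', hk', e⟩ := ih
    refine ⟨k' * (y ^ n * k * (y ^ n)⁻¹), mul_mem hk' (hn' n k hk), ?_⟩
    rw [pow_succ, e, pow_succ]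
    group

variable {G : Type*} [Group G] {D : Set G} {V : Subgroup G}

section final

variable [Finite G] (h : Cls D) (hn : V.Normal) (hV : IsPGroup 2 V) (hZ : center G = ⊥)
  (hVW : ∀ v ∈ V, ∀ w ∈ W D V, v * w = w * v)

include h hn hV hZ hVW

theorem comm {x y : G} (hx : x ∈ V) (hy : y ∈ V) : x * y = y * x := by
  have key : x * y * x⁻¹ * y⁻¹ ∈ center G := by
    rw [mem_center_iff]
    intro g
    have h1 : closure D ≤ centralizer {x * y * x⁻¹ * y⁻¹} := by
      rw [closure_le]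
      intro d hd
      rw [SetLike.mem_coe, mem_centralizer_iff]
      rintro _ rfl
      obtain ⟨r, hr⟩ : ∃ r, r = d * x * d⁻¹ * x⁻¹ := ⟨_, rfl⟩
      obtain ⟨s, hs⟩ : ∃ s, s = d * y * d⁻¹ * y⁻¹ := ⟨_, rfl⟩
      have hrW : r ∈ W D V := by rw [hr]; exact mem_W' hd hx
      have hsW : s ∈ W D V := by rw [hs]; exact mem_W' hd hy
      have crx : Commute x r := hVW x hx r hrW
      have cry : Commute y r := hVW y hy r hrW
      have csx : Commute x s := hVW x hx s hsW
      have csy : Commute y s := hVW y hy s hsW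
      have crs : Commute r s := hVW r (W_le hn hrW) s hsW
      have e1 : d * x * d⁻¹ = r * x := by rw [hr]; group
      have e2 : d * y * d⁻¹ = s * y := by rw [hs]; group
      have e3 : d * (x * y * x⁻¹ * y⁻¹) * d⁻¹ = x * y * x⁻¹ * y⁻¹ := by
        calc d * (x * y * x⁻¹ * y⁻¹) * d⁻¹ =
            (d * x * d⁻¹) * (d * y * d⁻¹) * (d * x * d⁻¹)⁻¹ * (d * y * d⁻¹)⁻¹ := by group
          _ = (r * x) * (s * y) * (r * x)⁻¹ * (s * y)⁻¹ := by rw [e1, e2]
          _ = r * (x * s) * y * x⁻¹ * r⁻¹ * y⁻¹ * s⁻¹ := by group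
          _ = r * (s * x) * y * x⁻¹ * r⁻¹ * y⁻¹ * s⁻¹ := by rw [csx.eq]
          _ = (r * s) * x * y * x⁻¹ * (r⁻¹ * y⁻¹) * s⁻¹ := by group
          _ = (s * r) * x * y * x⁻¹ * (y⁻¹ * r⁻¹) * s⁻¹ := by
              rw [crs.eq, (cry.inv_inv).eq]
          _ = s * (r * (x * y * x⁻¹ * y⁻¹)) * r⁻¹ * s⁻¹ := by group
          _ = s * ((x * y * x⁻¹ * y⁻¹) * r) * r⁻¹ * s⁻¹ := by
              rw [(((crx.mul_left cry).mul_left crx.inv_left).mul_left cry.inv_left).eq]
          _ = s * (x * y * x⁻¹ * y⁻¹) * s⁻¹ := by group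
          _ = (x * y * x⁻¹ * y⁻¹) * s * s⁻¹ := by
              rw [(((csx.mul_left csy).mul_left csx.inv_left).mul_left csy.inv_left).eq]
          _ = x * y * x⁻¹ * y⁻¹ := by group
      exact (mul_inv_eq_iff_eq_mul.1 e3).symm
    have := h1 (by rw [h.gen]; exact mem_top g)
    exact ((mem_centralizer_iff.1 this) _ rfl).symm
  rw [hZ, mem_bot] at key
  exact commutatorElement_eq_one_iff_mul_comm.1 key

theorem sq {x : G} (hx : x ∈ V) : x * x = 1 := by
  have key : x * x ∈ center G := by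
    rw [mem_center_iff]
    intro g
    have h1 : closure D ≤ centralizer {x * x} := by
      rw [closure_le]
      intro d hd
      rw [SetLike.mem_coe, mem_centralizer_iff]
      rintro _ rfl
      obtain ⟨r, hr⟩ : ∃ r, r = d * x * d⁻¹ * x⁻¹ := ⟨_, rfl⟩
      have hrA : r ∈ Ad V d := by rw [hr]; exact mem_Ad' hx
      have hrr := Ad_sq h hn hV hd hrA
      have crx := comm h hn hV hZ hVW hx (Ad_le hn d hrA)
      have e1 : d * x * d⁻¹ = r * x := by rw [hr]; group
      have e3 : d * (x * x) * d⁻¹ = x * x := by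
        calc d * (x * x) * d⁻¹ = (d * x * d⁻¹) * (d * x * d⁻¹) := by group
          _ = r * (x * r) * x := by rw [e1]; group
          _ = r * (r * x) * x := by rw [crx]
          _ = (r * r) * (x * x) := by group
          _ = x * x := by rw [hrr, one_mul]
      exact (mul_inv_eq_iff_eq_mul.1 e3).symm
    have := h1 (by rw [h.gen]; exact mem_top g)
    exact ((mem_centralizer_iff.1 this) _ rfl).symm
  rw [hZ, mem_bot] at key
  exact key

end final

/-- `V` normalises `[V, x]` -/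
theorem V_norm {x v a : G} (hv : v ∈ V) (ha : a ∈ Ad V x) : v * a * v⁻¹ ∈ Ad V x := by
  have h1 : Ad V x ≤ (Ad V x).comap (MulAut.conj v).toMonoidHom := by
    conv_lhs => unfold Ad
    rw [closure_le]
    rintro _ ⟨w, hw, rfl⟩
    change v * (w * x * w⁻¹ * x⁻¹) * v⁻¹ ∈ Ad V x
    have e : v * (w * x * w⁻¹ * x⁻¹) * v⁻¹ =
        ((v * w) * x * (v * w)⁻¹ * x⁻¹) * (v * x * v⁻¹ * x⁻¹)⁻¹ := by group
    rw [e]
    exact mul_mem (subset_closure ⟨v * w, V.mul_mem hv hw, rfl⟩)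
      (inv_mem (subset_closure ⟨v, hv, rfl⟩))
  exact h1 ha

/-- members of `D` in the same class have the same commutator with `V` -/
theorem Ad_class (hn : V.Normal) {x v : G} (hv : v ∈ V) : Ad V (v * x * v⁻¹) ≤ Ad V x := by
  intro a ha
  have h1 := conj_Ad hn v⁻¹ ha
  have e : v⁻¹ * (v * x * v⁻¹) * v⁻¹⁻¹ = x := by group
  rw [e] at h1
  have h2 := V_norm hv h1
  have e2 : v * (v⁻¹ * a * v⁻¹⁻¹) * v⁻¹ = a := by group
  rwa [e2] at h2

/-- images in a quotient by a normal 2-subgroup -/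
theorem cls_quot (h : Cls D) {N : Subgroup G} [N.Normal] (hD : ∀ d ∈ D, d ∉ N) :
    Cls (QuotientGroup.mk' N '' D) where
  sq := by
    rintro _ ⟨d, hd, rfl⟩
    rw [← map_mul, h.sq d hd, map_one]
  ne := by
    rintro _ ⟨d, hd, rfl⟩ e
    exact hD d hd ((QuotientGroup.eq_one_iff d).1 e)
  conj := by
    intro g
    obtain ⟨g, rfl⟩ := QuotientGroup.mk'_surjective N g
    rintro _ ⟨d, hd, rfl⟩
    exact ⟨g * d * g⁻¹, h.conj g d hd, by simp only [map_mul, map_inv]⟩
  braid := by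
    rintro _ ⟨d, hd, rfl⟩ _ ⟨e, he, rfl⟩
    rcases h.braid d hd e he with h1 | h1
    · left
      rw [← map_mul, h1, map_mul]
    · right
      rw [← map_mul, ← map_mul, h1, map_mul, map_mul]
  trans := by
    rintro _ ⟨a, ha, rfl⟩ _ ⟨b, hb, rfl⟩
    obtain ⟨g, rfl⟩ := h.trans a ha b hb
    exact ⟨QuotientGroup.mk' N g, by simp only [map_mul, map_inv]⟩
  gen := by
    rw [← MonoidHom.map_closure, h.gen, Subgroup.map_top_of_surjective _
      (QuotientGroup.mk'_surjective N)]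
  nonempty := h.nonempty.image _

/-- commuting can be checked modulo a normal 2-subgroup -/
theorem comm_quot (h : Cls D) {N : Subgroup G} [N.Normal] (hN : IsPGroup 2 N) {a b : G}
    (ha : a ∈ D) (hb : b ∈ D)
    (e : QuotientGroup.mk' N a * QuotientGroup.mk' N b =
      QuotientGroup.mk' N b * QuotientGroup.mk' N a) : a * b = b * a := by
  apply commute_of_mod h hN ha hb
  rw [← QuotientGroup.eq_one_iff (N := N), ← QuotientGroup.mk'_apply, map_mul, map_mul]
  have haa : QuotientGroup.mk' N a * QuotientGroup.mk' N a = 1 := by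
    rw [← map_mul, h.sq a ha, map_one]
  have hbb : QuotientGroup.mk' N b * QuotientGroup.mk' N b = 1 := by
    rw [← map_mul, h.sq b hb, map_one]
  generalize QuotientGroup.mk' N a = x at *
  generalize QuotientGroup.mk' N b = y at *
  calc x * y * (x * y) = x * (y * x) * y := by simp only [mul_assoc]
    _ = (x * x) * (y * y) := by rw [← e]; simp only [mul_assoc]
    _ = 1 := by rw [haa, hbb, one_mul]

theorem zeta_map {G' : Type*} [Group G'] (f : G →* G') (x a b : G) :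
    f (Aff.zeta x a b) = Aff.zeta (f x) (f a) (f b) := by
  unfold Aff.zeta
  simp only [map_mul, map_inv]

/-- the centraliser of a class modulo a normal 2-subgroup `N` -/
theorem mem_of_quot [Finite G] (h : Cls D) {N : Subgroup G} [N.Normal] (hN : IsPGroup 2 N)
    (hD : ∀ d ∈ D, d ∉ N) {x : G} (hx : x ∈ D) {g : G}
    (hg : QuotientGroup.mk' N g * QuotientGroup.mk' N x =
      QuotientGroup.mk' N x * QuotientGroup.mk' N g) : g ∈ SC.P D x ⊔ N := by
  have h1 := SC.centralizer_eq (cls_quot h hD) (Set.mem_image_of_mem _ hx) _ hg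
  have h2 : closure ({e | e ∈ QuotientGroup.mk' N '' D ∧ QuotientGroup.mk' N x * e =
      e * QuotientGroup.mk' N x} ∪ {z | ∃ a b, Aff (QuotientGroup.mk' N '' D)
        (QuotientGroup.mk' N x) a b ∧ z = Aff.zeta (QuotientGroup.mk' N x) a b}) ≤
      (SC.P D x).map (QuotientGroup.mk' N) := by
    rw [closure_le]
    rintro z (⟨⟨e, he, rfl⟩, hc⟩ | ⟨_, _, A, rfl⟩)
    · exact ⟨e, SC.mem_P_of_comm he (comm_quot h hN hx he hc), rfl⟩
    · obtain ⟨a, ha, rfl⟩ := A.hg
      obtain ⟨b, hb, rfl⟩ := A.hh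
      refine ⟨Aff.zeta x a b, SC.zeta_mem_P ⟨hx, ha, hb, fun e => A.fg ?_, fun e => A.fh ?_,
        fun e => A.gh ?_, fun e => A.fgfh ?_⟩, zeta_map _ _ _ _⟩
      · rw [← map_mul, e, map_mul]
      · rw [← map_mul, e, map_mul]
      · rw [← map_mul, e, map_mul]
      · rw [← map_mul, ← map_mul, ← map_mul, e, map_mul]
  obtain ⟨p, hp, hpg⟩ := h2 h1
  have h3 : p⁻¹ * g ∈ N := by
    rw [← QuotientGroup.eq]
    exact hpg
  have e : g = p * (p⁻¹ * g) := by group
  rw [e]
  exact mul_mem (mem_sup_left hp) (mem_sup_right h3)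

section main

variable [Finite G] (h : Cls D) [hn : V.Normal] (hV : IsPGroup 2 V)
  (hDV : ∀ d ∈ D, d ∉ V)
  (hcl : ∀ d ∈ D, ∀ e ∈ D, d⁻¹ * e ∈ V → ∃ v ∈ V, e = v * d * v⁻¹)
  (hA : ∀ a ∈ W D V, ∀ b ∈ W D V, a * b = b * a)

include h hV hDV hcl hA

theorem V_comm_Ad {x : G} (hx : x ∈ D) (Y : Subgroup (G ⧸ V)) (hY : IsPGroup 3 Y)
    (hYx : ∀ y ∈ Y, y * QuotientGroup.mk' V x = QuotientGroup.mk' V x * y)
    (hz : ∀ a b, Aff D x a b → QuotientGroup.mk' V (Aff.zeta x a b) ∈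
      Kd (QuotientGroup.mk' V '' D) (QuotientGroup.mk' V x) ⊔ Y) :
    ∀ v ∈ V, ∀ a ∈ Ad V x, v * a = a * v := by
  classical
  have hWn : (W D V).Normal := W_normal h hn
  -- the stabiliser of the class of `x`
  let Gx : Subgroup G := (centralizer {QuotientGroup.mk' V x}).comap (QuotientGroup.mk' V)
  have memGx : ∀ {g : G}, g ∈ Gx ↔ QuotientGroup.mk' V g * QuotientGroup.mk' V x =
      QuotientGroup.mk' V x * QuotientGroup.mk' V g := by
    intro g
    change QuotientGroup.mk' V g ∈ centralizer {QuotientGroup.mk' V x} ↔ _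
    rw [mem_centralizer_singleton_iff]
  have hVGx : V ≤ Gx := by
    intro v hv
    rw [memGx]
    have : QuotientGroup.mk' V v = 1 := (QuotientGroup.eq_one_iff v).2 hv
    rw [this, one_mul, mul_one]
  have hclass : ∀ g ∈ Gx, ∃ v ∈ V, g * x * g⁻¹ = v * x * v⁻¹ := by
    intro g hg
    apply hcl x hx _ (h.conj g x hx)
    rw [← QuotientGroup.eq_one_iff (N := V), ← QuotientGroup.mk'_apply]
    simp only [map_mul, map_inv]
    rw [memGx.1 hg]
    group
  have hnorm : Gx ≤ normalizer (Ad V x : Set G) := by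
    intro g hg
    rw [mem_normalizer_iff]
    have key : ∀ g ∈ Gx, ∀ a ∈ Ad V x, g * a * g⁻¹ ∈ Ad V x := by
      intro g hg a ha
      have h1 := conj_Ad hn g ha
      obtain ⟨v, hv, e⟩ := hclass g hg
      rw [e] at h1
      exact Ad_class hn hv h1
    intro a
    constructor
    · exact key g hg a
    · intro ha
      have := key g⁻¹ (inv_mem hg) _ ha
      have e : g⁻¹ * (g * a * g⁻¹) * g⁻¹⁻¹ = a := by group
      rwa [e] at this
  let f : Gx →* MulAut (Ad V x) := (normalizerMonoidHom (Ad V x)).comp (inclusion hnorm)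
  have hf : ∀ (g : Gx) (a : Ad V x), ((f g a : Ad V x) : G) = g * a * (g : G)⁻¹ := fun g a => rfl
  have hker : ∀ g : Gx, f g = 1 ↔ ∀ a ∈ Ad V x, (g : G) * a = a * g := by
    intro g
    constructor
    · intro e a ha
      have h1 := hf g ⟨a, ha⟩
      rw [e] at h1
      change a = g * a * (g : G)⁻¹ at h1
      exact (eq_mul_inv_iff_mul_eq.1 h1).symm
    · intro e
      ext a
      rw [hf, e a a.2, mul_inv_cancel_right]
      rfl
  -- kernel contains `K_x` and `W`
  have hWker : ∀ w : Gx, (w : G) ∈ W D V → f w = 1 := by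
    intro w hw
    rw [hker]
    intro a ha
    exact hA _ hw _ (Ad_le_W hx ha)
  have hKker : ∀ w : Gx, (w : G) ∈ Kd D x → f w = 1 := by
    intro w hw
    rw [hker]
    intro a ha
    exact Kd_comm_Ad h hn hV hx hw ha
  -- elements of `D` commuting with `x` lie in `Gx`
  have hKGx : Kd D x ≤ Gx := by
    unfold Kd
    rw [closure_le]
    rintro e ⟨he, hc⟩
    rw [SetLike.mem_coe, memGx, ← map_mul, ← hc, map_mul]
  have hzcomm : ∀ a b, Aff D x a b → Aff.zeta x a b ∈ Gx ∧ (Aff.zeta x a b) ^ 3 = 1 := by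
    intro a b A
    have hs := h.cube hx A.hg A.fg
    have ht := h.cube hx A.hh A.fh
    have hxx := h.sq x hx
    have h1 : ((x * a) * (x * b)) * ((x * a) * (x * b)) * ((x * a) * (x * b)) = 1 := by
      have := h.cube (SC.conj_mem h hx A.hg) A.hh A.fgfh
      have e : (x * a) * (x * b) = (x * a * x) * b := by simp only [mul_assoc]
      rw [e]; exact this
    have h2 : ((x * a)⁻¹ * (x * b)) * ((x * a)⁻¹ * (x * b)) * ((x * a)⁻¹ * (x * b)) = 1 := by
      have e : (x * a)⁻¹ * (x * b) = a * b := by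
        rw [SC.inv_mul h hx A.hg]
        calc a * x * (x * b) = a * (x * x) * b := by simp only [mul_assoc]
          _ = a * b := by rw [hxx, mul_one]
      rw [e]; exact h.cube A.hg A.hh A.gh
    obtain ⟨c1, c2, hz3⟩ := TM.zeta_spec hs ht h1 h2
    refine ⟨?_, ?_⟩
    · rw [memGx, ← map_mul, ← map_mul]
      congr 1
      -- zeta commutes with x
      have fs : x * (x * a) * x = (x * a)⁻¹ := conj_prod hxx (h.sq a A.hg)
      have ft : x * (x * b) * x = (x * b)⁻¹ := conj_prod hxx (h.sq b A.hh)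
      have fs' := conj_inv_of hxx fs
      have ft' := conj_inv_of hxx ft
      have hzd : Aff.zeta x a b = (x * a) * (x * b) * (x * a)⁻¹ * (x * b)⁻¹ := rfl
      change Commute (x * a) (Aff.zeta x a b) at c1
      change Commute (x * b) (Aff.zeta x a b) at c2
      have c3 : Commute ((x * b) * (x * a)) (Aff.zeta x a b) := c2.mul_left c1
      have e1 : x * Aff.zeta x a b * x = (x * a)⁻¹ * (x * b)⁻¹ * (x * a) * (x * b) := by
        have : x * Aff.zeta x a b * x = (x * (x * a) * x) * (x * (x * b) * x) *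
            (x * (x * a)⁻¹ * x) * (x * (x * b)⁻¹ * x) := by
          calc x * Aff.zeta x a b * x =
                x * ((x * a) * 1 * (x * b) * 1 * (x * a)⁻¹ * 1 * (x * b)⁻¹) * x := by
                rw [hzd]; simp only [mul_one]
            _ = x * ((x * a) * (x * x) * (x * b) * (x * x) * (x * a)⁻¹ * (x * x) *
                (x * b)⁻¹) * x := by rw [hxx]
            _ = _ := by simp only [mul_assoc]
        rw [this, fs, ft, fs', ft']
      have e2 : x * Aff.zeta x a b * x = Aff.zeta x a b := by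
        rw [e1]
        have e3 : (x * a)⁻¹ * (x * b)⁻¹ * (x * a) * (x * b) =
            ((x * b) * (x * a))⁻¹ * (Aff.zeta x a b * ((x * b) * (x * a))) := by rw [hzd]; group
        rw [e3, ← c3.eq, inv_mul_cancel_left]
      calc Aff.zeta x a b * x = (x * x) * Aff.zeta x a b * x := by rw [hxx, one_mul]
        _ = x * (x * Aff.zeta x a b * x) := by simp only [mul_assoc]
        _ = x * Aff.zeta x a b := by rw [e2]
    · change (x * a * (x * b) * (x * a)⁻¹ * (x * b)⁻¹) ^ 3 = 1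
      rw [pow_succ, pow_two]
      exact hz3
  -- generation
  have hgen : ∀ g ∈ Gx, g ∈ SC.P D x ⊔ W D V := by
    intro g hg
    apply mem_of_quot h (hV.to_le (W_le hn)) (fun d hd e => hDV d hd (W_le hn e)) hx
    obtain ⟨v, hv, e⟩ := hclass g hg
    have e1 : g * x * g⁻¹ * x⁻¹ ∈ W D V := by rw [e]; exact mem_W hx hv
    have e2 : QuotientGroup.mk' (W D V) (g * x * g⁻¹ * x⁻¹) = 1 := (QuotientGroup.eq_one_iff _).2 e1
    simp only [map_mul, map_inv] at e2
    exact mul_inv_eq_iff_eq_mul.1 (mul_inv_eq_one.1 e2)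
  -- the group of automorphisms
  let Γ : Subgroup (MulAut (Ad V x)) := f.range
  let Z : Subgroup Γ := (V.subgroupOf Gx).map f.rangeRestrict
  let S : Set Γ := {γ | ∃ a b, ∃ A : Aff D x a b, γ = f.rangeRestrict
    ⟨Aff.zeta x a b, (hzcomm a b A).1⟩}
  have hPGx : SC.P D x ≤ Gx := by
    unfold SC.P
    rw [closure_le]
    rintro z (⟨he, hc⟩ | ⟨a, b, A, rfl⟩)
    · exact hKGx (subset_closure ⟨he, hc⟩)
    · exact (hzcomm a b A).1
  have hS : closure S = ⊤ := by
    rw [eq_top_iff]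
    rintro ⟨_, ⟨g, rfl⟩⟩ -
    change f.rangeRestrict g ∈ closure S
    obtain ⟨g, hg⟩ := g
    have h1 := hgen g hg
    rw [← SetLike.mem_coe, Subgroup.mul_normal] at h1
    obtain ⟨p, hp, w, hw, rfl⟩ := Set.mem_mul.1 h1
    have hpG := hPGx hp
    have hwG : w ∈ Gx := hVGx (W_le hn hw)
    have e : f.rangeRestrict ⟨p * w, hg⟩ = f.rangeRestrict ⟨p, hpG⟩ := by
      apply Subtype.ext
      change f (⟨p, hpG⟩ * ⟨w, hwG⟩) = f ⟨p, hpG⟩
      rw [map_mul, hWker ⟨w, hwG⟩ hw, mul_one]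
    rw [e]
    -- induct over `P`
    have h2 : SC.P D x ≤ ((closure S).comap f.rangeRestrict).map Gx.subtype := by
      conv_lhs => unfold SC.P
      rw [closure_le]
      rintro z (⟨he, hc⟩ | ⟨a, b, A, rfl⟩)
      · have hzK : z ∈ Kd D x := subset_closure ⟨he, hc⟩
        refine ⟨⟨z, hKGx hzK⟩, ?_, rfl⟩
        change f.rangeRestrict ⟨z, hKGx hzK⟩ ∈ closure S
        have : f.rangeRestrict ⟨z, hKGx hzK⟩ = 1 := by
          apply Subtype.ext
          exact hKker ⟨z, hKGx hzK⟩ hzK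
        rw [this]
        exact one_mem _
      · refine ⟨⟨_, (hzcomm a b A).1⟩, ?_, rfl⟩
        exact subset_closure ⟨a, b, A, rfl⟩
    obtain ⟨q, hq, hqp⟩ := h2 hp
    have : q = ⟨p, hpG⟩ := Subtype.ext hqp
    rw [← this]
    exact hq
  have h3 : ∀ s ∈ S, s ^ 3 = 1 := by
    rintro _ ⟨a, b, A, rfl⟩
    rw [← map_pow]
    have : (⟨Aff.zeta x a b, (hzcomm a b A).1⟩ : Gx) ^ 3 = 1 := Subtype.ext (hzcomm a b A).2
    rw [this, map_one]
  have hZc : Z ≤ center Γ := by
    rintro _ ⟨v, hv, rfl⟩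
    have hv' : (v : G) ∈ V := hv
    rw [mem_center_iff]
    rintro ⟨_, ⟨g, rfl⟩⟩
    apply Subtype.ext
    change f g * f v = f v * f g
    rw [← map_mul, ← map_mul]
    have e : g * v = (g * v * g⁻¹ * v⁻¹) * (v * g) := by group
    rw [e, map_mul]
    have : f (g * v * g⁻¹ * v⁻¹) = 1 := by
      apply hWker
      exact comm_mem_W h hn hv' (g : G)
    rw [this, one_mul]
  have hZ2 : IsPGroup 2 Z := by
    apply IsPGroup.map
    exact hV.comap_subtype
  have hq : ∀ γ : Γ, ∃ k : ℕ, γ ^ (3 ^ k) ∈ Z := by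
    rintro ⟨_, ⟨g, rfl⟩⟩
    change ∃ k : ℕ, (f.rangeRestrict g) ^ (3 ^ k) ∈ Z
    -- the image of g lies in K_x Y
    set Kb := Kd (QuotientGroup.mk' V '' D) (QuotientGroup.mk' V x) with hKb
    have hclsV := cls_quot h hDV
    have hxb : QuotientGroup.mk' V x ∈ QuotientGroup.mk' V '' D := Set.mem_image_of_mem _ hx
    have h1 : QuotientGroup.mk' V (g : G) ∈ Kb ⊔ Y := by
      have h2 := SC.centralizer_eq hclsV hxb _ (memGx.1 g.2)
      have h4 : closure ({e | e ∈ QuotientGroup.mk' V '' D ∧ QuotientGroup.mk' V x * e =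
          e * QuotientGroup.mk' V x} ∪ {z | ∃ a b, Aff (QuotientGroup.mk' V '' D)
          (QuotientGroup.mk' V x) a b ∧ z = Aff.zeta (QuotientGroup.mk' V x) a b}) ≤ Kb ⊔ Y := by
        rw [closure_le]
        rintro z (⟨he, hc⟩ | ⟨_, _, A, rfl⟩)
        · exact mem_sup_left (subset_closure ⟨he, hc⟩)
        · obtain ⟨a, ha, rfl⟩ := A.hg
          obtain ⟨b, hb, rfl⟩ := A.hh
          rw [SetLike.mem_coe, ← zeta_map]
          apply hz
          refine ⟨hx, ha, hb, fun e => A.fg ?_, fun e => A.fh ?_, fun e => A.gh ?_,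
            fun e => A.fgfh ?_⟩
          · rw [← map_mul, e, map_mul]
          · rw [← map_mul, e, map_mul]
          · rw [← map_mul, e, map_mul]
          · rw [← map_mul, ← map_mul, ← map_mul, e, map_mul]
      exact h4 h2
    -- elements of `Y` normalise `Kb`
    have hYn : ∀ y ∈ Y, ∀ k ∈ Kb, y * k * y⁻¹ ∈ Kb := by
      intro y hy k hk
      have h2 : Kb ≤ Kb.comap (MulAut.conj y).toMonoidHom := by
        conv_lhs => rw [hKb]; unfold Kd
        rw [closure_le]
        rintro e ⟨he, hc⟩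
        change y * e * y⁻¹ ∈ Kb
        refine subset_closure ⟨hclsV.conj y e he, ?_⟩
        have e1 : y * QuotientGroup.mk' V x * y⁻¹ = QuotientGroup.mk' V x := by
          rw [hYx y hy, mul_inv_cancel_right]
        have e2 := SC.conj_eq (g := y) hc
        rwa [e1] at e2
      exact h2 hk
    obtain ⟨k, hk, y, hy, e⟩ := mem_sup_of_norm hYn h1
    obtain ⟨j, hj⟩ := hY ⟨y, hy⟩
    have hj' : y ^ 3 ^ j = 1 := by
      have := congrArg (fun y : Y => (y : G ⧸ V)) hj
      simpa using this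
    refine ⟨j, ?_⟩
    obtain ⟨k', hk', e'⟩ := pow_of_norm hk (hYn y hy) (3 ^ j)
    rw [← e, hj', mul_one] at e'
    -- lift `k'`
    have hKmap : Kb ≤ (Kd D x).map (QuotientGroup.mk' V) := by
      rw [hKb]
      conv_lhs => unfold Kd
      rw [closure_le]
      rintro _ ⟨⟨e, he, rfl⟩, hc⟩
      exact ⟨e, subset_closure ⟨he, comm_quot h hV hx he hc⟩, rfl⟩
    obtain ⟨κ, hκ, hκ'⟩ := hKmap hk'
    have hκG := hKGx hκ
    have h7 : κ⁻¹ * (g : G) ^ 3 ^ j ∈ V := by
      rw [← QuotientGroup.eq]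
      change QuotientGroup.mk' V κ = QuotientGroup.mk' V ((g : G) ^ 3 ^ j)
      rw [hκ', ← e', map_pow]
    refine ⟨⟨κ⁻¹ * (g : G) ^ 3 ^ j, hVGx h7⟩, h7, ?_⟩
    apply Subtype.ext
    change f ⟨κ⁻¹ * (g : G) ^ 3 ^ j, hVGx h7⟩ = (f g) ^ 3 ^ j
    have e8 : (⟨κ⁻¹ * (g : G) ^ 3 ^ j, hVGx h7⟩ : Gx) = ⟨κ, hκG⟩⁻¹ * g ^ 3 ^ j :=
      Subtype.ext (by simp)
    rw [e8, map_mul, map_inv, hKker ⟨κ, hκG⟩ hκ, inv_one, one_mul, map_pow]
  intro v hv
  have h5 := central_trivial Z hZc hZ2 hq S hS h3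
    (z := f.rangeRestrict ⟨v, hVGx hv⟩) ⟨⟨v, hVGx hv⟩, hv, rfl⟩
  have h6 : f ⟨v, hVGx hv⟩ = 1 := congrArg Subtype.val h5
  exact (hker _).1 h6

/-- **`V` is elementary abelian.** -/
theorem elAb (hZ : center G = ⊥) {x : G} (hx : x ∈ D) (Y : Subgroup (G ⧸ V))
    (hY : IsPGroup 3 Y)
    (hYx : ∀ y ∈ Y, y * QuotientGroup.mk' V x = QuotientGroup.mk' V x * y)
    (hz : ∀ a b, Aff D x a b → QuotientGroup.mk' V (Aff.zeta x a b) ∈
      Kd (QuotientGroup.mk' V '' D) (QuotientGroup.mk' V x) ⊔ Y) :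
    (∀ a ∈ V, ∀ b ∈ V, a * b = b * a) ∧ ∀ a ∈ V, a * a = 1 := by
  have h1 := V_comm_Ad h hV hDV hcl hA hx Y hY hYx hz
  have h2 : ∀ v ∈ V, ∀ w ∈ W D V, v * w = w * v := by
    intro v hv w hw
    have h3 : W D V ≤ centralizer {v} := by
      unfold W
      rw [closure_le]
      rintro _ ⟨u, hu, d, hd, rfl⟩
      rw [SetLike.mem_coe, mem_centralizer_singleton_iff]
      obtain ⟨g, rfl⟩ := h.trans x hx d hd
      have h4 : g⁻¹ * (u * (g * x * g⁻¹) * u⁻¹ * (g * x * g⁻¹)⁻¹) * g ∈ Ad V x := by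
        refine subset_closure ⟨g⁻¹ * u * g, ?_, by group⟩
        have := hn.conj_mem u hu g⁻¹
        rwa [inv_inv] at this
      have h5 := h1 (g⁻¹ * v * g) (by have := hn.conj_mem v hv g⁻¹; rwa [inv_inv] at this) _ h4
      generalize u * (g * x * g⁻¹) * u⁻¹ * (g * x * g⁻¹)⁻¹ = c at *
      calc c * v = g * ((g⁻¹ * c * g) * (g⁻¹ * v * g)) * g⁻¹ := by group
        _ = g * ((g⁻¹ * v * g) * (g⁻¹ * c * g)) * g⁻¹ := by rw [h5]
        _ = v * c := by group
    exact (mem_centralizer_singleton_iff.1 (h3 hw)).symm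
  exact ⟨fun a ha b hb => comm h hn hV hZ h2 ha hb, fun a ha => sq h hn hV hZ h2 ha⟩

end main

section abelian

variable [Finite G] (h : Cls D) [hn : V.Normal] (hV : IsPGroup 2 V)

include h hV

omit [Finite G] in
/-- generation modulo `V` gives generation -/
theorem gen_lift {d e : G} (hd : d ∈ D) (he : e ∈ D)
    (hgen : Kd (QuotientGroup.mk' V '' D) (QuotientGroup.mk' V d) ⊔
      Kd (QuotientGroup.mk' V '' D) (QuotientGroup.mk' V e) = ⊤) : Kd D d ⊔ Kd D e = ⊤ := by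
  have hKmap : ∀ {x : G}, x ∈ D → Kd (QuotientGroup.mk' V '' D) (QuotientGroup.mk' V x) ≤
      (Kd D x).map (QuotientGroup.mk' V) := by
    intro x hx
    conv_lhs => unfold Kd
    rw [closure_le]
    rintro _ ⟨⟨e, he, rfl⟩, hc⟩
    exact ⟨e, subset_closure ⟨he, comm_quot h hV hx he hc⟩, rfl⟩
  have h1 : (Kd D d ⊔ Kd D e).map (QuotientGroup.mk' V) = ⊤ := by
    rw [eq_top_iff, ← hgen, Subgroup.map_sup]
    exact sup_le_sup (hKmap hd) (hKmap he)
  rw [eq_top_iff, ← h.gen, closure_le]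
  intro f hf
  obtain ⟨g, rfl⟩ := h.trans d hd f hf
  have h2 : QuotientGroup.mk' V g ∈ (Kd D d ⊔ Kd D e).map (QuotientGroup.mk' V) := by
    rw [h1]; exact mem_top _
  obtain ⟨l, hl, hlg⟩ := h2
  have h3 : l⁻¹ * g ∈ V := by
    rw [← QuotientGroup.eq]
    exact hlg
  have h4 : (l⁻¹ * g) * d * (l⁻¹ * g)⁻¹ ∈ Kd D d := by
    refine subset_closure ⟨h.conj _ d hd, ?_⟩
    exact (commute_conj_of_commute h hn hV hd hd rfl h3).symm
  have e1 : g * d * g⁻¹ = l * ((l⁻¹ * g) * d * (l⁻¹ * g)⁻¹) * l⁻¹ := by group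
  rw [e1]
  exact mul_mem (mul_mem hl (mem_sup_left h4)) (inv_mem hl)

/-- `[V, d]` and `[V, e]` commute when `K_d` and `K_e` generate -/
theorem Ad_comm_of_gen (hZ : center G = ⊥) {d e : G} (hd : d ∈ D) (he : e ∈ D)
    (hgen : Kd (QuotientGroup.mk' V '' D) (QuotientGroup.mk' V d) ⊔
      Kd (QuotientGroup.mk' V '' D) (QuotientGroup.mk' V e) = ⊤) :
    ∀ a ∈ Ad V d, ∀ b ∈ Ad V e, a * b = b * a := by
  intro a ha b hb
  have haV := Ad_le hn d ha
  have hbV := Ad_le hn e hb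
  have h1 := gen_lift h hV hd he hgen
  have c1 : a * b * a⁻¹ * b⁻¹ ∈ Ad V d := by
    have e1 : a * b * a⁻¹ * b⁻¹ = a * (b * a⁻¹ * b⁻¹) := by group
    rw [e1]
    exact mul_mem ha (V_norm hbV (inv_mem ha))
  have c2 : a * b * a⁻¹ * b⁻¹ ∈ Ad V e := mul_mem (V_norm haV hb) (inv_mem hb)
  have h2 : Kd D d ⊔ Kd D e ≤ centralizer {a * b * a⁻¹ * b⁻¹} := by
    apply sup_le
    · intro k hk
      rw [mem_centralizer_singleton_iff]
      exact Kd_comm_Ad h hn hV hd hk c1
    · intro k hk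
      rw [mem_centralizer_singleton_iff]
      exact Kd_comm_Ad h hn hV he hk c2
  have h3 : a * b * a⁻¹ * b⁻¹ ∈ center G := by
    rw [mem_center_iff]
    intro g
    exact mem_centralizer_singleton_iff.1 (h2 (by rw [h1]; exact mem_top g))
  rw [hZ, mem_bot] at h3
  exact commutatorElement_eq_one_iff_mul_comm.1 h3

omit h hV hn [Finite G] in
theorem W_comm_of (hAA : ∀ d ∈ D, ∀ e ∈ D, ∀ a ∈ Ad V d, ∀ b ∈ Ad V e, a * b = b * a) :
    ∀ a ∈ W D V, ∀ b ∈ W D V, a * b = b * a := by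
  have h1 : ∀ d ∈ D, ∀ a ∈ Ad V d, W D V ≤ centralizer {a} := by
    intro d hd a ha
    unfold W
    rw [closure_le]
    rintro _ ⟨v, hv, e, he, rfl⟩
    rw [SetLike.mem_coe, mem_centralizer_singleton_iff]
    exact (hAA d hd e he a ha _ (subset_closure ⟨v, hv, rfl⟩)).symm
  intro a ha b hb
  have h2 : W D V ≤ centralizer {b} := by
    unfold W
    rw [closure_le]
    rintro _ ⟨v, hv, d, hd, rfl⟩
    rw [SetLike.mem_coe, mem_centralizer_singleton_iff]
    exact (mem_centralizer_singleton_iff.1 (h1 d hd _ (subset_closure ⟨v, hv, rfl⟩) hb)).symm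
  exact mem_centralizer_singleton_iff.1 (h2 ha)

end abelian

end Cfsg.Agent.H853.VEA
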